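import Mathlib

/-!
# Coproducts of distinguished triangles
-/

set_option linter.style.haveILetI false

universe w v u

open CategoryTheory Limits Pretriangulated Category

namespace Groth.Agent.BrownRep

variable {D : Type u} [Category.{v} D] [Preadditive D] [HasZeroObject D] [HasShift D ℤ]
  [∀ n : ℤ, (shiftFunctor D n).Additive] [Pretriangulated D]

omit [HasZeroObject D] [∀ (n : ℤ), (shiftFunctor D n).Additive] [Pretriangulated D] in
omit [Preadditive D] in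
theorem shift_sigma_hom_ext {J : Type w} (X : J → D) [HasCoproduct X] {W : D}
    (f g : (∐ X)⟦(1 : ℤ)⟧ ⟶ W)
    (h : ∀ j, (Sigma.ι X j)⟦(1 : ℤ)⟧' ≫ f = (Sigma.ι X j)⟦(1 : ℤ)⟧' ≫ g) : f = g :=
  (isColimitOfPreserves (shiftFunctor D (1 : ℤ)) (coproductIsCoproduct X)).hom_ext
    fun j => by simpa using h j.as

variable {J : Type w} (T : J → Triangle D) [HasCoproduct fun j => (T j).obj₁]
  [HasCoproduct fun j => (T j).obj₂] [HasCoproduct fun j => (T j).obj₃]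

/-- The coproduct of a family of triangles. -/
@[simps!]
noncomputable def coproductTriangle : Triangle D :=
  Triangle.mk (Limits.Sigma.map fun j => (T j).mor₁) (Limits.Sigma.map fun j => (T j).mor₂)
    (Sigma.desc fun j => (T j).mor₃ ≫ (Sigma.ι (fun j => (T j).obj₁) j)⟦(1 : ℤ)⟧')

theorem coproductTriangle_distinguished (hT : ∀ j, T j ∈ distTriang D) :
    coproductTriangle T ∈ distTriang D := by
  obtain ⟨Z, f₂, f₃, hT'⟩ := distinguished_cocone_triangle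
    (Limits.Sigma.map fun j => (T j).mor₁)
  let T' := Triangle.mk (Limits.Sigma.map fun j => (T j).mor₁) f₂ f₃
  change T' ∈ distTriang D at hT'
  let φ : ∀ j, T j ⟶ T' := fun j => completeDistinguishedTriangleMorphism _ _ (hT j) hT'
    (Sigma.ι (fun j => (T j).obj₁) j) (Sigma.ι (fun j => (T j).obj₂) j) (Sigma.ι_map (fun j => (T j).mor₁) j).symm
  let ψ : ∀ j, (T j).obj₃ ⟶ Z := fun j => (φ j).hom₃
  let c : (∐ fun j => (T j).obj₃) ⟶ Z := Sigma.desc ψ
  have hφ₁ : ∀ j, (φ j).hom₁ = Sigma.ι (fun j => (T j).obj₁) j := fun _ => rfl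
  have hφ₂ : ∀ j, (φ j).hom₂ = Sigma.ι (fun j => (T j).obj₂) j := fun _ => rfl
  have c2 : ∀ j, (T j).mor₂ ≫ (ψ j) = Sigma.ι (fun j => (T j).obj₂) j ≫ f₂ := fun j => by
    exact ((φ j).comm₂.trans (congr_arg (· ≫ T'.mor₂) (hφ₂ j)))
  have c3 : ∀ j, (T j).mor₃ ≫ (Sigma.ι (fun j => (T j).obj₁) j)⟦(1 : ℤ)⟧' = (ψ j) ≫ f₃ :=
    fun j => by
      exact (congr_arg (fun t => (T j).mor₃ ≫ t⟦(1 : ℤ)⟧') (hφ₁ j)).symm.trans (φ j).comm₃
  let e : coproductTriangle T ⟶ T' :=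
    { hom₁ := 𝟙 _
      hom₂ := 𝟙 _
      hom₃ := c
      comm₁ := (comp_id _).trans (id_comp _).symm
      comm₂ := by
        refine (Sigma.hom_ext (Limits.Sigma.map (fun j => (T j).mor₂) ≫ c) f₂ fun j => ?_).trans (id_comp _).symm
        rw [← assoc, Sigma.ι_map, assoc, Sigma.ι_desc, c2]
      comm₃ := by
        refine (congr_arg _ ((shiftFunctor D (1 : ℤ)).map_id _)).trans ((comp_id _).trans ?_)
        refine Sigma.hom_ext (Sigma.desc fun j =>
          (T j).mor₃ ≫ (Sigma.ι (fun j => (T j).obj₁) j)⟦(1 : ℤ)⟧') (c ≫ f₃) fun j => ?_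
        rw [Sigma.ι_desc, c3, ← assoc, Sigma.ι_desc] }
  suffices IsIso c by
    haveI : IsIso e.hom₃ := this
    haveI : IsIso e.hom₁ := inferInstanceAs (IsIso (𝟙 _))
    haveI : IsIso e.hom₂ := inferInstanceAs (IsIso (𝟙 _))
    haveI : IsIso e := Triangle.isIso_of_isIsos e (by infer_instance) (by infer_instance) (by infer_instance)
    exact isomorphic_distinguished _ hT' _ (asIso e)
  refine isIso_of_coyoneda_map_bijective c fun W => ⟨fun x₁ x₂ hx => ?_, fun y => ?_⟩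
  · suffices ∀ x : Z ⟶ W, c ≫ x = 0 → x = 0 by
      rw [← sub_eq_zero]
      exact this _ (by rw [Preadditive.comp_sub, sub_eq_zero]; exact hx)
    intro x hx
    have hx' : ∀ j, (ψ j) ≫ x = 0 := fun j => by
      rw [← Sigma.ι_desc (ψ) j, assoc, show Sigma.desc (ψ) ≫ x = 0
        from hx, comp_zero]
    have h2 : f₂ ≫ x = 0 := Sigma.hom_ext _ _ fun j => by
      rw [comp_zero, ← assoc, ← c2, assoc, hx' j, comp_zero]
    obtain ⟨g, hg⟩ := T'.yoneda_exact₃ hT' x h2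
    change x = f₃ ≫ g at hg
    have hg' : ∀ j, (T j).mor₃ ≫ (Sigma.ι (fun j => (T j).obj₁) j)⟦(1 : ℤ)⟧' ≫ g = 0 := fun j => by
      rw [← assoc, c3, assoc, ← hg, hx' j]
    have hk : ∀ j, ∃ k, (Sigma.ι (fun j => (T j).obj₁) j)⟦(1 : ℤ)⟧' ≫ g =
        (T j).mor₁⟦(1 : ℤ)⟧' ≫ k := fun j => by
      obtain ⟨k, hk⟩ := Triangle.yoneda_exact₃ _ (rot_of_distTriang _ (hT j)) _ (hg' j)
      change _ = (-(T j).mor₁⟦(1 : ℤ)⟧') ≫ k at hk
      exact ⟨-k, hk.trans ((Preadditive.neg_comp _ _).trans (Preadditive.comp_neg _ _).symm)⟩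
    choose k hk using hk
    let K : (∐ fun j => (T j).obj₂)⟦(1 : ℤ)⟧ ⟶ W :=
      (isColimitOfPreserves (shiftFunctor D (1 : ℤ))
        (coproductIsCoproduct fun j => (T j).obj₂)).desc
          ⟨W, Discrete.natTrans fun j => k j.as⟩
    have hK : ∀ j, (Sigma.ι (fun j => (T j).obj₂) j)⟦(1 : ℤ)⟧' ≫ K = k j := fun j => by
      have := (isColimitOfPreserves (shiftFunctor D (1 : ℤ))
        (coproductIsCoproduct fun j => (T j).obj₂)).fac ⟨W, Discrete.natTrans fun j => k j.as⟩ ⟨j⟩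
      simpa using this
    have hgK : g = T'.mor₁⟦(1 : ℤ)⟧' ≫ K := shift_sigma_hom_ext _ _ _ fun j => by
      rw [hk j, ← hK j]
      refine (assoc _ _ _).symm.trans (Eq.trans ?_ (assoc _ _ _))
      refine congr_arg (· ≫ K) ?_
      exact ((shiftFunctor D (1 : ℤ)).map_comp _ _).symm.trans ((congr_arg _
        (Sigma.ι_map (fun j => (T j).mor₁) j).symm).trans ((shiftFunctor D (1 : ℤ)).map_comp _ _))
    rw [hg, hgK]
    refine (assoc _ _ _).symm.trans ?_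
    refine (congr_arg (· ≫ K) (comp_distTriang_mor_zero₃₁ _ hT')).trans ?_
    exact zero_comp
  · let y₂ : (∐ fun j => (T j).obj₂) ⟶ W :=
      Sigma.desc fun j => (T j).mor₂ ≫ Sigma.ι (fun j => (T j).obj₃) j ≫ y
    have h12 : T'.mor₁ ≫ y₂ = 0 := Sigma.hom_ext _ _ fun j => by
      show Sigma.ι (fun j => (T j).obj₁) j ≫ Limits.Sigma.map (fun j => (T j).mor₁) ≫ y₂ = _ ≫ 0
      rw [comp_zero, ← assoc, Sigma.ι_map, assoc, Sigma.ι_desc, ← assoc,
        comp_distTriang_mor_zero₁₂ _ (hT j), zero_comp]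
    obtain ⟨x₀, hx₀⟩ : ∃ x₀ : Z ⟶ W, y₂ = f₂ ≫ x₀ := T'.yoneda_exact₂ hT' y₂ h12
    have hj : ∀ j, ∃ k, Sigma.ι (fun j => (T j).obj₃) j ≫ (y - c ≫ x₀) = (T j).mor₃ ≫ k := fun j => by
      refine (T j).yoneda_exact₃ (hT j) _ ?_
      rw [Preadditive.comp_sub, Preadditive.comp_sub, sub_eq_zero]
      have := congr_arg (Sigma.ι (fun j => (T j).obj₂) j ≫ ·) hx₀
      simp only [y₂, Sigma.ι_desc] at this
      rw [this, show Sigma.ι (fun j => (T j).obj₃) j ≫ c ≫ x₀ = (ψ j) ≫ x₀ by simp [c],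
        ← assoc (T j).mor₂, c2, assoc]
    choose k hk using hj
    let hcol := isColimitOfPreserves (shiftFunctor D (1 : ℤ))
      (coproductIsCoproduct fun j => (T j).obj₁)
    let K : (∐ fun j => (T j).obj₁)⟦(1 : ℤ)⟧ ⟶ W := hcol.desc ⟨W, Discrete.natTrans fun j => k j.as⟩
    have hK : ∀ j, (Sigma.ι (fun j => (T j).obj₁) j)⟦(1 : ℤ)⟧' ≫ K = k j := fun j => by
      simpa using hcol.fac ⟨W, Discrete.natTrans fun j => k j.as⟩ ⟨j⟩
    refine ⟨x₀ + f₃ ≫ K, ?_⟩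
    refine Sigma.hom_ext _ _ fun j => ?_
    have h1 := hk j
    rw [← hK j, ← assoc, c3, assoc, Preadditive.comp_sub, sub_eq_iff_eq_add] at h1
    rw [h1]
    simp only [c, Preadditive.comp_add, Sigma.ι_desc_assoc]
    abel

end Groth.Agent.BrownRep
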