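import Groth.Agent.BrownRep.Adjoint
import Groth.Prelude.Def_DerLim

/-!
# Compact objects in triangulated categories

Maps from compact objects into coproducts, homotopy colimits and built objects.
-/

set_option linter.style.haveILetI false
set_option linter.unusedSectionVars false

universe w v u

open CategoryTheory Limits Pretriangulated Category
open scoped ZeroObject

namespace Groth.Agent.BrownRep

variable {D : Type u} [Category.{v} D] [Preadditive D]

/-- Maps into a coproduct which are finite sums of maps into the summands. -/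
noncomputable def finHom {κ : Type w} (X : κ → D) [HasCoproduct X] (C : D) :
    AddSubgroup (C ⟶ ∐ X) :=
  ⨆ k, (Preadditive.rightComp C (Sigma.ι X k)).range

variable {κ : Type w} {X : κ → D} [HasCoproduct X]

theorem comp_ι_mem_finHom {C : D} {k : κ} (x : C ⟶ X k) : x ≫ Sigma.ι X k ∈ finHom X C :=
  AddSubgroup.mem_iSup_of_mem k ⟨x, rfl⟩

theorem finHom_induction {C : D} {p : (C ⟶ ∐ X) → Prop} {α : C ⟶ ∐ X} (hα : α ∈ finHom X C)
    (h0 : p 0) (hι : ∀ k (x : C ⟶ X k), p (x ≫ Sigma.ι X k))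
    (hadd : ∀ a b, p a → p b → p (a + b)) : p α :=
  AddSubgroup.iSup_induction _ (C := p) hα (fun k _ ⟨x, hx⟩ => hx ▸ hι k x) h0 hadd

theorem finHom_precomp {C C' : D} (f : C' ⟶ C) {α : C ⟶ ∐ X} (hα : α ∈ finHom X C) :
    f ≫ α ∈ finHom X C' := by
  refine finHom_induction (p := fun α => f ≫ α ∈ finHom X C') hα (by simp) (fun k x => ?_)
    fun a b ha hb => ?_
  · rw [← assoc]; exact comp_ι_mem_finHom _
  · rw [Preadditive.comp_add]; exact add_mem ha hb

variable [DecidableEq κ] in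
/-- The projection to a finite part of a coproduct. -/
noncomputable def projFin (X : κ → D) [HasCoproduct X] (s : Finset κ) : (∐ X) ⟶ ∐ X :=
  ∑ k ∈ s, Sigma.π X k ≫ Sigma.ι X k

variable [DecidableEq κ] in
theorem comp_projFin_mem {C : D} (α : C ⟶ ∐ X) (s : Finset κ) :
    α ≫ projFin X s ∈ finHom X C := by
  rw [projFin, Preadditive.comp_sum]
  exact sum_mem fun k _ => by rw [← assoc]; exact comp_ι_mem_finHom _

variable [DecidableEq κ] in
theorem exists_projFin {C : D} {α : C ⟶ ∐ X} (hα : α ∈ finHom X C) :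
    ∃ s : Finset κ, ∀ t, s ⊆ t → α ≫ projFin X t = α := by
  classical
  refine finHom_induction (p := fun α => ∃ s : Finset κ, ∀ t, s ⊆ t → α ≫ projFin X t = α) hα
    ⟨∅, fun t _ => zero_comp⟩ (fun k x => ⟨{k}, fun t ht => ?_⟩) ?_
  · rw [assoc]
    congr 1
    rw [projFin, Preadditive.comp_sum, Finset.sum_eq_single k]
    · simp
    · exact fun j _ hj => by rw [← assoc, Sigma.ι_π_of_ne _ hj.symm, zero_comp]
    · exact fun h => absurd (ht (Finset.mem_singleton_self k)) h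
  · rintro a b ⟨s, hs⟩ ⟨s', hs'⟩
    exact ⟨s ∪ s', fun t ht => by
      rw [Preadditive.add_comp, hs t (Finset.union_subset_left ht),
        hs' t (Finset.union_subset_right ht)]⟩

variable [DecidableEq κ] in
theorem eq_zero_of_mem_finHom {C : D} {α : C ⟶ ∐ X} (hα : α ∈ finHom X C)
    (h : ∀ k, α ≫ Sigma.π X k = 0) : α = 0 := by
  obtain ⟨s, hs⟩ := exists_projFin hα
  rw [← hs s subset_rfl, projFin, Preadditive.comp_sum]
  exact Finset.sum_eq_zero fun k _ => by rw [← assoc, h k, zero_comp]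

section

variable [HasCoproducts.{v} D]

theorem isCompactObject_iff (C : D) :
    CohDer.IsCompactObject C ↔
      ∀ (κ : Type v) (X : κ → D) (α : C ⟶ ∐ X), α ∈ finHom X C := by
  classical
  have hof : ∀ (κ : Type v) (X : κ → D) k (f : C ⟶ X k),
      CohDer.homSumToHomCoprod C X (DirectSum.of (fun k => C ⟶ X k) k f) = f ≫ Sigma.ι X k := by
    intro κ X k f
    unfold CohDer.homSumToHomCoprod
    exact DirectSum.toAddMonoid_of (fun k => Preadditive.rightComp C (Sigma.ι X k)) k f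
  refine ⟨fun h κ X α => ?_, fun h κ X => ⟨fun x x' hx => ?_, fun α => ?_⟩⟩
  · obtain ⟨x, rfl⟩ := (h κ X).2 α
    induction x using DirectSum.induction_on with
    | zero => rw [map_zero]; exact zero_mem _
    | of k f => rw [hof]; exact comp_ι_mem_finHom _
    | add a b ha hb => rw [map_add]; exact add_mem ha hb
  · have key : ∀ (x : DirectSum κ fun k => C ⟶ X k) k,
        CohDer.homSumToHomCoprod C X x ≫ Sigma.π X k = x k := by
      intro x k
      induction x using DirectSum.induction_on with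
      | zero => simp
      | of j f =>
        rw [hof, assoc]
        by_cases hjk : j = k
        · subst hjk
          simp
        · rw [Sigma.ι_π_of_ne _ hjk, comp_zero, DirectSum.of_eq_of_ne _ _ _ (Ne.symm hjk)]
      | add a b ha hb => rw [map_add, Preadditive.add_comp, ha, hb]; simp
    exact DFunLike.ext _ _ fun k => by rw [← key, ← key, hx]
  · exact finHom_induction (p := fun α => ∃ x, CohDer.homSumToHomCoprod C X x = α) (h κ X α)
      ⟨0, map_zero _⟩ (fun k f => ⟨_, hof κ X k f⟩)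
      (fun a b ⟨x, hx⟩ ⟨y, hy⟩ => ⟨x + y, by rw [map_add, hx, hy]⟩)

theorem mem_finHom_nat [HasColimitsOfShape (Discrete ℕ) D] {C : D}
    (hC : CohDer.IsCompactObject C) (X : ℕ → D) (α : C ⟶ ∐ X) : α ∈ finHom X C := by
  let X' : ULift.{v} ℕ → D := fun k => X k.down
  let e : (∐ X) ⟶ ∐ X' := Limits.Sigma.desc fun k => Sigma.ι X' ⟨k⟩
  let e' : (∐ X') ⟶ ∐ X := Limits.Sigma.desc fun k => Sigma.ι X k.down
  have he : e ≫ e' = 𝟙 _ := Sigma.hom_ext _ _ fun k => by simp [e, e']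
  have h := finHom_induction (p := fun β => β ≫ e' ∈ finHom X C)
    ((isCompactObject_iff C).1 hC _ X' (α ≫ e)) (by simp)
    (fun k x => by
      rw [assoc, show Sigma.ι X' k ≫ e' = Sigma.ι X k.down from Sigma.ι_desc _ _]
      exact comp_ι_mem_finHom (X := X) (k := k.down) x)
    (fun a b ha hb => by rw [Preadditive.add_comp]; exact add_mem ha hb)
  simpa [assoc, he] using h

theorem isCompactObject_of_retract {C C' : D} (r : Retract C' C) (hC : CohDer.IsCompactObject C) :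
    CohDer.IsCompactObject C' :=
  (isCompactObject_iff C').2 fun κ X α => by
    simpa using finHom_precomp r.i ((isCompactObject_iff C).1 hC κ X (r.r ≫ α))

end

variable [HasZeroObject D] [HasShift D ℤ] [∀ n : ℤ, (shiftFunctor D n).Additive]
  [Pretriangulated D] [HasCoproducts.{v} D]

theorem isCompactObject_shift {C : D} (hC : CohDer.IsCompactObject C) (n : ℤ) :
    CohDer.IsCompactObject (C⟦n⟧) := by
  refine (isCompactObject_iff _).2 fun κ X α => ?_
  let adj := (shiftEquiv D n).toAdjunction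
  let e := PreservesCoproduct.iso (shiftFunctor D (-n)) X
  let Ψ : (C ⟶ ∐ fun k => (X k)⟦-n⟧) → (C⟦n⟧ ⟶ ∐ X) := fun β =>
    (adj.homEquiv C (∐ X)).symm (β ≫ e.inv)
  have hΨ : Ψ (adj.homEquiv C (∐ X) α ≫ e.hom) = α :=
    (congr_arg (adj.homEquiv C (∐ X)).symm
      ((assoc _ _ _).trans ((congr_arg (_ ≫ ·) e.hom_inv_id).trans (comp_id _)))).trans
      ((adj.homEquiv _ _).symm_apply_apply α)
  have hadd : ∀ a b, Ψ (a + b) = Ψ a + Ψ b := fun a b => by
    simp only [Ψ, Preadditive.add_comp, Adjunction.homEquiv_counit]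
    exact (congr_arg (· ≫ _) ((shiftFunctor D n).map_add (f := a ≫ e.inv) (g := b ≫ e.inv))).trans
      (Preadditive.add_comp _ _ _ _ _ _)
  rw [← hΨ]
  refine finHom_induction (p := fun β => Ψ β ∈ finHom X (C⟦n⟧))
    ((isCompactObject_iff C).1 hC _ _ _) ?_ (fun k x => ?_) fun a b ha hb => ?_
  · have h0 := hadd 0 0
    rw [add_zero, left_eq_add] at h0
    rw [h0]
    exact zero_mem _
  · have : Ψ (x ≫ Sigma.ι (fun k => (X k)⟦-n⟧) k) =
        (adj.homEquiv C (X k)).symm x ≫ Sigma.ι X k := by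
      simp only [Ψ, e, assoc, PreservesCoproduct.inv_hom]
      exact (congr_arg (fun g => (adj.homEquiv C (∐ X)).symm (x ≫ g))
        (ι_comp_sigmaComparison _ _ k)).trans
          (adj.homEquiv_naturality_right_symm x (Sigma.ι X k))
    rw [this]
    exact comp_ι_mem_finHom _
  · rw [hadd]
    exact add_mem ha hb

theorem isCompactObject_cone (T : Triangle D) (hT : T ∈ distTriang D)
    (h₁ : CohDer.IsCompactObject T.obj₁) (h₂ : CohDer.IsCompactObject T.obj₂) :
    CohDer.IsCompactObject T.obj₃ := by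
  classical
  refine (isCompactObject_iff _).2 fun κ X α => ?_
  obtain ⟨s, hs⟩ := exists_projFin ((isCompactObject_iff _).1 h₂ κ X (T.mor₂ ≫ α))
  obtain ⟨β, hβ⟩ : ∃ β, α - α ≫ projFin X s = T.mor₃ ≫ β :=
    Triangle.yoneda_exact₃ _ hT _ (by
      rw [Preadditive.comp_sub, ← assoc, hs s subset_rfl, sub_self])
  rw [← sub_add_cancel α (α ≫ projFin X s), hβ]
  exact add_mem (finHom_precomp _ ((isCompactObject_iff _).1 (isCompactObject_shift h₁ 1) κ X β))
    (comp_projFin_mem _ _)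

theorem isCompactObject_of_isZero {C : D} (hC : IsZero C) : CohDer.IsCompactObject C :=
  (isCompactObject_iff C).2 fun κ X α => by rw [hC.eq_of_src α 0]; exact zero_mem _

/-- Compact objects form a triangulated subcategory. -/
theorem isTriangulated_isCompactObject :
    ObjectProperty.IsTriangulated (fun K : D => CohDer.IsCompactObject K) := by
  haveI : ObjectProperty.ContainsZero (fun K : D => CohDer.IsCompactObject K) :=
    ⟨⟨0, isZero_zero D, isCompactObject_of_isZero (isZero_zero D)⟩⟩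
  haveI : ObjectProperty.IsStableUnderShift (fun K : D => CohDer.IsCompactObject K) ℤ :=
    ⟨fun n => ⟨fun X hX => isCompactObject_shift hX n⟩⟩
  haveI : ObjectProperty.IsTriangulatedClosed₂ (fun K : D => CohDer.IsCompactObject K) :=
    ⟨fun T hT h₁ h₃ => ObjectProperty.le_isoClosure _ _
      (isCompactObject_cone _ (inv_rot_of_distTriang _ hT) (isCompactObject_shift h₃ (-1)) h₁)⟩
  constructor

theorem isStableUnderRetracts_isCompactObject :
    ObjectProperty.IsStableUnderRetracts (fun K : D => CohDer.IsCompactObject K) :=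
  ⟨fun r h => isCompactObject_of_retract r h⟩

theorem exists_factor_hocolim [HasColimitsOfShape (Discrete ℕ) D] {K : ℕ → D}
    {f : ∀ n, K n ⟶ K (n + 1)} {L : D} {i : ∀ n, K n ⟶ L} (h : DerLim.IsHocolim K f L i) {C : D}
    (hC : CohDer.IsCompactObject C) (φ : C ⟶ L) : ∃ n, ∃ ψ : C ⟶ K n, φ = ψ ≫ i n := by
  obtain ⟨c, hc⟩ := h
  let d : (∐ K) ⟶ ∐ K := 𝟙 _ - DerLim.shiftMap K f
  have hi : ∀ n, f n ≫ i (n + 1) = i n := fun n => by
    have := congr_arg (Sigma.ι K n ≫ ·)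
      (show (𝟙 _ - DerLim.shiftMap K f) ≫ Limits.Sigma.desc i = 0 from
        comp_distTriang_mor_zero₁₂ _ hc)
    simp [DerLim.shiftMap, sub_eq_zero] at this
    exact this.symm
  have h1 : φ ≫ c = 0 := by
    obtain ⟨ξ, hξ⟩ := (shiftFunctor D (1 : ℤ)).map_surjective
      ((shiftNegShift C (1 : ℤ)).hom ≫ φ ≫ c) (X := C⟦(-1 : ℤ)⟧)
    rw [← cancel_epi (shiftNegShift C (1 : ℤ)).hom, comp_zero]
    refine hξ.symm.trans ?_
    suffices ξ = 0 by rw [this, Functor.map_zero]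
    have hd : ξ ≫ d = 0 := by
      apply (shiftFunctor D (1 : ℤ)).map_injective
      rw [Functor.map_comp, hξ, Functor.map_zero, assoc, assoc]
      exact (congr_arg (fun k => _ ≫ φ ≫ k) (comp_distTriang_mor_zero₃₁ _ hc)).trans
        ((congr_arg (_ ≫ ·) comp_zero).trans comp_zero)
    refine eq_zero_of_mem_finHom (mem_finHom_nat (isCompactObject_shift hC (-1)) K ξ) fun k => ?_
    induction k with
    | zero =>
      have hsh : DerLim.shiftMap K f ≫ Sigma.π K 0 = 0 := Sigma.hom_ext _ _ fun n => by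
        simp [DerLim.shiftMap, Sigma.ι_π_of_ne _ (Nat.succ_ne_zero n)]
      simpa [d, Preadditive.sub_comp, Preadditive.comp_sub, hsh] using
        congr_arg (· ≫ Sigma.π K 0) hd
    | succ k ih =>
      have hsh : DerLim.shiftMap K f ≫ Sigma.π K (k + 1) = Sigma.π K k ≫ f k :=
        Sigma.hom_ext _ _ fun n => by
          by_cases hn : n = k
          · subst hn
            simp [DerLim.shiftMap]
          · simp [DerLim.shiftMap, Sigma.ι_π_of_ne _ (show n + 1 ≠ k + 1 by omega),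
              Sigma.ι_π_of_ne_assoc _ hn]
      have h2 := congr_arg (· ≫ Sigma.π K (k + 1)) hd
      have ih0 : ξ ≫ Sigma.π K k ≫ f k = 0 := by rw [← assoc, ih, zero_comp]
      simpa [d, Preadditive.sub_comp, Preadditive.comp_sub, hsh, ih0] using h2
  obtain ⟨α, rfl⟩ : ∃ α, φ = α ≫ Limits.Sigma.desc i := Triangle.coyoneda_exact₃ _ hc φ h1
  have hpush : ∀ n m (x : C ⟶ K n), ∃ ψ : C ⟶ K (n + m), x ≫ i n = ψ ≫ i (n + m) := by
    intro n m x
    induction m with
    | zero => exact ⟨x, rfl⟩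
    | succ m ih =>
      obtain ⟨ψ, hψ⟩ := ih
      exact ⟨ψ ≫ f (n + m), by
        rw [hψ, assoc]
        exact congr_arg (ψ ≫ ·) (hi (n + m)).symm⟩
  have hle : ∀ n N (x : C ⟶ K n), n ≤ N → ∃ ψ : C ⟶ K N, x ≫ i n = ψ ≫ i N := by
    intro n N x h
    obtain ⟨m, rfl⟩ := Nat.exists_eq_add_of_le h
    exact hpush n m x
  refine finHom_induction (p := fun α => ∃ n, ∃ ψ : C ⟶ K n, α ≫ Limits.Sigma.desc i = ψ ≫ i n)
    (mem_finHom_nat hC K α) ⟨0, 0, by simp⟩ (fun k x => ⟨k, x, by simp⟩) ?_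
  rintro a b ⟨n, ψ, hn⟩ ⟨m, ψ', hm⟩
  obtain ⟨χ, hχ⟩ := hle n (max n m) ψ (le_max_left _ _)
  obtain ⟨χ', hχ'⟩ := hle m (max n m) ψ' (le_max_right _ _)
  exact ⟨max n m, χ + χ', by rw [Preadditive.add_comp, Preadditive.add_comp, hn, hm, hχ, hχ']⟩

section Envelope

variable [IsTriangulated D] {ι : Type*} (E : ι → D)

/-- Objects built from finitely many of the `E i`. -/
abbrev env (s : Finset ι) : ObjectProperty D :=
  ObjectProperty.triangEnvelope (fun Y : D => ∃ i ∈ s, Y = E i)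

theorem env_mono {s t : Finset ι} (h : s ⊆ t) : env E s ≤ env E t :=
  ObjectProperty.monotone_triangEnvelope fun _ ⟨i, hi, hY⟩ => ⟨i, h hi, hY⟩

theorem env_nonempty {s : Finset ι} (hs : s.Nonempty) :
    ObjectProperty.Nonempty (fun Y : D => ∃ i ∈ s, Y = E i) :=
  ⟨E hs.choose, hs.choose, hs.choose_spec, rfl⟩

variable {E}

theorem isCompactObject_env (hc : ∀ i, CohDer.IsCompactObject (E i)) {s : Finset ι} {Y : D}
    (hY : env E s Y) : CohDer.IsCompactObject Y := by
  haveI := isTriangulated_isCompactObject (D := D)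
  haveI := isStableUnderRetracts_isCompactObject (D := D)
  exact (ObjectProperty.triangEnvelope_le_iff _).2
    (show (fun Y : D => ∃ i ∈ s, Y = E i) ≤ fun K => CohDer.IsCompactObject K from
      fun _ ⟨i, _, h⟩ => h ▸ hc i) _ hY

theorem env_shift {s : Finset ι} {i : ι} (hi : i ∈ s) (n : ℤ) : env E s ((E i)⟦n⟧) :=
  ObjectProperty.IsStableUnderShiftBy.le_shift
    (P := env E s) (a := n) _ (ObjectProperty.le_triangEnvelope _ _ ⟨i, hi, rfl⟩)

variable (E) in
/-- A map factoring through an object built from finitely many of the `E i`. -/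
def Fac {C W : D} (φ : C ⟶ W) : Prop :=
  ∃ (s : Finset ι) (_ : s.Nonempty) (E' : D) (g : C ⟶ E') (h : E' ⟶ W),
    env E s E' ∧ g ≫ h = φ

theorem Fac.comp {C W W' : D} {φ : C ⟶ W} (h : Fac E φ) (f : W ⟶ W') : Fac E (φ ≫ f) := by
  obtain ⟨s, hs, E', g, k, hE', rfl⟩ := h
  exact ⟨s, hs, E', g, k ≫ f, hE', by simp⟩

theorem Fac.add {C W : D} {φ ψ : C ⟶ W} (h : Fac E φ) (h' : Fac E ψ) : Fac E (φ + ψ) := by
  classical
  obtain ⟨s, hs, A, g, k, hA, rfl⟩ := h
  obtain ⟨s', hs', A', g', k', hA', rfl⟩ := h'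
  haveI := env_nonempty E (hs.mono (Finset.subset_union_left (s₂ := s')))
  exact ⟨s ∪ s', hs.mono Finset.subset_union_left, prod A A', prod.lift g g',
    prod.fst ≫ k + prod.snd ≫ k',
    ObjectProperty.prop_prod _ _ _ (env_mono E Finset.subset_union_left _ hA)
      (env_mono E Finset.subset_union_right _ hA'), by
        rw [Preadditive.comp_add, prod.lift_fst_assoc, prod.lift_snd_assoc]⟩

theorem fac_shift {C W : D} (i : ι) (n : ℤ) (g : C ⟶ (E i)⟦n⟧) (h : (E i)⟦n⟧ ⟶ W) :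
    Fac E (g ≫ h) :=
  ⟨{i}, Finset.singleton_nonempty i, _, g, h, env_shift (Finset.mem_singleton_self i) n, rfl⟩

theorem fac_zero [Nonempty ι] {C W : D} : Fac E (0 : C ⟶ W) := by
  obtain ⟨i⟩ := ‹Nonempty ι›
  simpa using fac_shift (E := E) (C := C) (W := W) i 0 0 0

theorem fac_of_coproduct [Nonempty ι] {κ : Type v} (a : κ → ι) (m : κ → ℤ) {W : D}
    (h : (∐ fun k => (E (a k))⟦m k⟧) ⟶ W) {C : D} (hC : CohDer.IsCompactObject C)
    (φ : C ⟶ ∐ fun k => (E (a k))⟦m k⟧) : Fac E (φ ≫ h) :=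
  finHom_induction (p := fun φ => Fac E (φ ≫ h)) ((isCompactObject_iff C).1 hC _ _ φ)
    (by rw [zero_comp]; exact fac_zero) (fun k x => by rw [assoc]; exact fac_shift _ _ _ _)
    (fun a b ha hb => by rw [Preadditive.add_comp]; exact ha.add hb)

theorem fac_tower [Nonempty ι] (hc : ∀ i, CohDer.IsCompactObject (E i))
    (K : ℕ → D) (f : ∀ n, K n ⟶ K (n + 1))
    (h0 : ∃ (κ : Type v) (a : κ → ι) (m : κ → ℤ),
      Nonempty (K 0 ≅ ∐ (fun k => (shiftFunctor D (m k)).obj (E (a k)))))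
    (hstep : ∀ n, ∃ (κ : Type v) (a : κ → ι) (m : κ → ℤ)
      (y : (∐ fun k => (shiftFunctor D (m k)).obj (E (a k))) ⟶ K n)
      (z : K (n + 1) ⟶ (shiftFunctor D (1 : ℤ)).obj
        (∐ fun k => (shiftFunctor D (m k)).obj (E (a k)))),
      Triangle.mk y (f n) z ∈ distTriang D)
    (n : ℕ) : ∀ (C : D), CohDer.IsCompactObject C → ∀ φ : C ⟶ K n, Fac E φ := by
  classical
  induction n with
  | zero =>
    intro C hC φ
    obtain ⟨κ, a, m, ⟨e⟩⟩ := h0
    have := fac_of_coproduct a m e.inv hC (φ ≫ e.hom)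
    rwa [assoc, e.hom_inv_id, comp_id] at this
  | succ n ih =>
    intro C hC φ
    obtain ⟨κ, a, m, y, z, hT⟩ := hstep n
    let Z : κ → D := fun k => (E (a k))⟦m k⟧
    -- factor `φ ≫ z`
    obtain ⟨s, hs, E1, g1, h1, hE1, hgh⟩ : Fac E (φ ≫ z) := by
      let eZ : (∐ Z)⟦(1 : ℤ)⟧ ≅ ∐ fun k => (E (a k))⟦m k + 1⟧ :=
        PreservesCoproduct.iso (shiftFunctor D (1 : ℤ)) Z ≪≫
          Limits.Sigma.mapIso fun k => ((shiftFunctorAdd' D (m k) 1 (m k + 1) rfl).app _).symm
      have := fac_of_coproduct a (fun k => m k + 1) eZ.inv hC ((φ ≫ z) ≫ eZ.hom)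
      rwa [assoc, eZ.hom_inv_id, comp_id] at this
    haveI := env_nonempty E hs
    let e := shiftNegShift E1 (1 : ℤ)
    let eC := shiftNegShift C (1 : ℤ)
    obtain ⟨u, hu⟩ := (shiftFunctor D (1 : ℤ)).map_surjective (X := E1⟦(-1 : ℤ)⟧)
      (Y := ∐ Z) (e.hom ≫ h1)
    obtain ⟨g0, hg0⟩ := (shiftFunctor D (1 : ℤ)).map_surjective (X := C⟦(-1 : ℤ)⟧)
      (Y := E1⟦(-1 : ℤ)⟧) (eC.hom ≫ g1 ≫ e.inv)
    have hguy : g0 ≫ u ≫ y = 0 := by
      apply (shiftFunctor D (1 : ℤ)).map_injective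
      rw [Functor.map_comp, Functor.map_comp, hg0, hu, Functor.map_zero]
      simp only [assoc, e.inv_hom_id_assoc]
      rw [reassoc_of% hgh]
      exact (congr_arg (fun k => eC.hom ≫ φ ≫ k) (comp_distTriang_mor_zero₃₁ _ hT)).trans
        ((congr_arg (_ ≫ ·) comp_zero).trans comp_zero)
    have hE1' : CohDer.IsCompactObject (E1⟦(-1 : ℤ)⟧) :=
      isCompactObject_shift (isCompactObject_env hc hE1) _
    obtain ⟨s₂, -, E2, a₂, b₂, hE2, hab⟩ := ih _ hE1' (u ≫ y)
    obtain ⟨W, p, q, hW⟩ := distinguished_cocone_triangle (g0 ≫ a₂)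
    obtain ⟨b', hb'⟩ : ∃ b', b₂ = p ≫ b' := Triangle.yoneda_exact₂ _ hW b₂ (by
      exact (assoc g0 a₂ b₂).trans ((congr_arg (g0 ≫ ·) hab).trans hguy))
    obtain ⟨s₃, hs₃, E2', p', b'', hE2', rfl⟩ := ih W (isCompactObject_cone _ hW
      (isCompactObject_shift hC _) (isCompactObject_env hc hE2)) b'
    let t := s ∪ s₃
    haveI := env_nonempty E (hs.mono (Finset.subset_union_left (s₂ := s₃)))
    let a' := a₂ ≫ p ≫ p'
    have ha' : g0 ≫ a' = 0 := by
      show g0 ≫ a₂ ≫ p ≫ p' = 0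
      rw [← assoc a₂, ← assoc g0, ← assoc g0 a₂ p]
      exact (congr_arg (· ≫ p') (comp_distTriang_mor_zero₁₂ _ hW)).trans zero_comp
    have hab' : a' ≫ b'' = u ≫ y := by
      show (a₂ ≫ p ≫ p') ≫ b'' = _
      rw [← hab, hb', assoc, assoc]
    obtain ⟨E3, hE3, q', r', hT₁⟩ := (env E t).distinguished_cocone_triangle a'
      (ObjectProperty.IsStableUnderShiftBy.le_shift (P := env E t) (a := (-1 : ℤ)) _
        (env_mono E Finset.subset_union_left _ hE1))
      (env_mono E Finset.subset_union_right _ hE2')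
    obtain ⟨c, hc₁, hc₂⟩ := complete_distinguished_triangle_morphism _ _ hT₁ hT u b'' hab'
    change E3 ⟶ K (n + 1) at c
    obtain ⟨g3, hg3⟩ : ∃ g3, g1 ≫ e.inv = g3 ≫ r' :=
      Triangle.coyoneda_exact₁ _ hT₁ (g1 ≫ e.inv) (by
        rw [← cancel_epi eC.hom, comp_zero]
        refine (assoc _ _ _).symm.trans ((congr_arg (· ≫ _) hg0.symm).trans ?_)
        exact ((shiftFunctor D (1 : ℤ)).map_comp _ _).symm.trans
          ((congr_arg _ ha').trans (Functor.map_zero _ _ _)))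
    obtain ⟨ψ, hψ⟩ : ∃ ψ, φ - g3 ≫ c = ψ ≫ f n := Triangle.coyoneda_exact₃ _ hT _ (by
      show (φ - g3 ≫ c) ≫ z = 0
      rw [Preadditive.sub_comp, assoc]
      rw [show c ≫ z = r' ≫ u⟦(1 : ℤ)⟧' from hc₂.symm, ← assoc, ← hg3, hu, assoc,
        e.inv_hom_id_assoc, hgh, sub_self])
    rw [← sub_add_cancel φ (g3 ≫ c), hψ]
    exact ((ih C hC ψ).comp _).add
      ⟨t, hs.mono Finset.subset_union_left, E3, g3, c, hE3, rfl⟩

end Envelope

section Resolution

variable {ι : Type v} (E : ι → D) [HasColimitsOfShape (Discrete ℕ) D]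

/-- Every object is a homotopy colimit of a tower built from compact generators. -/
theorem exists_resolution (hc : ∀ i, CohDer.IsCompactObject (E i)) (hg : CohDer.Generates E)
    (X : D) :
    ∃ (K : ℕ → D) (f : ∀ n, K n ⟶ K (n + 1)) (i : ∀ n, K n ⟶ X),
      DerLim.IsHocolim K f X i ∧
      (∃ (κ : Type v) (a : κ → ι) (m : κ → ℤ),
        Nonempty (K 0 ≅ ∐ (fun k => (shiftFunctor D (m k)).obj (E (a k))))) ∧
      ∀ n, ∃ (κ : Type v) (a : κ → ι) (m : κ → ℤ)
        (y : (∐ fun k => (shiftFunctor D (m k)).obj (E (a k))) ⟶ K n)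
        (z : K (n + 1) ⟶ (shiftFunctor D (1 : ℤ)).obj
          (∐ fun k => (shiftFunctor D (m k)).obj (E (a k)))),
        Triangle.mk y (f n) z ∈ distTriang D := by
  let F := shiftFamily E
  have hF : Perfect F := perfect_shiftFamily (perfect_of_compact hc)
  let H := preadditiveYoneda.obj X
  haveI := preservesLimitsOfShape_of_equiv (Discrete.equivalence (Equiv.ulift.{v} (α := ℕ))) H
  -- one step
  have step : ∀ p : Σ K : D, (K ⟶ X), ∃ (p' : Σ K : D, (K ⟶ X)) (t : p.1 ⟶ p'.1)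
      (κ : Type v) (a : κ → ι) (m : κ → ℤ)
      (y : (∐ fun k => (E (a k))⟦m k⟧) ⟶ p.1) (z : p'.1 ⟶ (∐ fun k => (E (a k))⟦m k⟧)⟦(1 : ℤ)⟧),
      t ≫ p'.2 = p.2 ∧ (∀ q (g : F q ⟶ p.1), g ≫ p.2 = 0 → g ≫ t = 0) ∧
        Triangle.mk y t z ∈ distTriang D := by
    rintro ⟨K, k⟩
    let Q := {q : Σ p : ι × ULift.{v} ℤ, (F p ⟶ K) // q.2 ≫ k = 0}
    let y : (∐ fun q : Q => F q.1.1) ⟶ K := Limits.Sigma.desc fun q => q.1.2
    obtain ⟨K', t, z, hT⟩ := distinguished_cocone_triangle y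
    obtain ⟨k', hk'⟩ : ∃ k', k = t ≫ k' := Triangle.yoneda_exact₂ _ hT k
      (Sigma.hom_ext _ _ fun q => by
        refine (Sigma.ι_desc_assoc _ _ _).trans ?_
        exact q.2.trans comp_zero.symm)
    refine ⟨⟨K', k'⟩, t, Q, fun q => q.1.1.1, fun q => q.1.1.2.down, y, z, hk'.symm, ?_, hT⟩
    intro q g hg
    refine ((congr_arg (· ≫ t) (Sigma.ι_desc (f := fun q : Q => F q.1.1)
      (fun q => q.1.2) ⟨⟨q, g⟩, hg⟩)).symm.trans ?_)
    dsimp only
    rw [assoc]
    exact (congr_arg (_ ≫ ·) (comp_distTriang_mor_zero₁₂ _ hT)).trans comp_zero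
  choose next t κ a m y z hnext hkill hT using step
  let J := Σ p : ι × ULift.{v} ℤ, (F p ⟶ X)
  let seq : ℕ → Σ K : D, (K ⟶ X) := Nat.rec
    ⟨∐ fun j : J => F j.1, Limits.Sigma.desc fun j => j.2⟩ fun _ p => next p
  have hsurj : ∀ p (b : F p ⟶ X), ∃ g : F p ⟶ (seq 0).1, g ≫ (seq 0).2 = b := fun p b =>
    ⟨Sigma.ι (fun j : J => F j.1) ⟨p, b⟩, Sigma.ι_desc _ _⟩
  obtain ⟨Y, p, δ, aY, hY, hb⟩ := exists_tower_colimit H hF (shiftFamily_shift E)
    (fun n => (seq n).2) (fun n => t (seq n))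
    (fun n q g hg0 => hkill (seq n) q g hg0) (fun n => hnext (seq n)) hsurj
  change Y ⟶ X at aY
  haveI : IsIso aY := isIso_of_bijective F
    (fun C hC => detects_shiftFamily hg C fun q g => by
      rw [← cancel_mono ((shiftFunctorZero D ℤ).inv.app C), zero_comp]
      exact hC q 0 _) aY fun q r => by
    obtain ⟨j, ⟨e⟩⟩ := shiftFamily_shift E q (-r)
    let adj := (shiftEquiv D r).symm.toAdjunction
    let mY : (F q ⟶ Y⟦r⟧) ≃ (F j ⟶ Y) := ((adj.homEquiv (F q) Y).symm).trans e.symm.homFromEquiv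
    let mX : (F q ⟶ X⟦r⟧) ≃ (F j ⟶ X) := ((adj.homEquiv (F q) X).symm).trans e.symm.homFromEquiv
    have hm : ∀ g : F q ⟶ Y⟦r⟧, mX (g ≫ aY⟦r⟧') = mY g ≫ aY := fun g => by
      show e.hom ≫ (adj.homEquiv (F q) X).symm (g ≫ aY⟦r⟧') =
        (e.hom ≫ (adj.homEquiv (F q) Y).symm g) ≫ aY
      rw [assoc]
      exact congr_arg (e.hom ≫ ·) (adj.homEquiv_naturality_right_symm g aY)
    rw [show (fun g : F q ⟶ Y⟦r⟧ => g ≫ aY⟦r⟧') = mX.symm ∘ (fun g => g ≫ aY) ∘ mY from
      funext fun g => (mX.eq_symm_apply).2 (hm g)]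
    exact mX.symm.bijective.comp ((hb j).comp mY.bijective)
  let K : ℕ → D := fun n => (seq n).1
  refine ⟨K, fun n => t (seq n), fun n => Sigma.ι K n ≫ p ≫ aY, ⟨inv aY ≫ δ, ?_⟩,
    ⟨J, fun j => j.1.1, fun j => j.1.2.down, ⟨Iso.refl _⟩⟩,
    fun n => ⟨κ (seq n), a (seq n), m (seq n), y (seq n), z (seq n), hT (seq n)⟩⟩
  refine isomorphic_distinguished _ hY _ (Triangle.isoMk _ _ (Iso.refl _) (Iso.refl _)
    (asIso aY).symm ?_ ?_ ?_)
  · refine (comp_id _).trans (Eq.trans ?_ (id_comp _).symm)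
    refine Sigma.hom_ext _ _ fun n => ?_
    refine (Preadditive.comp_sub _ _ _).trans (Eq.trans ?_ (Sigma.ι_desc _ _).symm)
    exact congr_arg₂ (· - ·) (comp_id _) (Sigma.ι_desc _ _)
  · refine Eq.trans ?_ (id_comp _).symm
    refine (congr_arg (· ≫ inv aY) (show Limits.Sigma.desc (fun n => Sigma.ι K n ≫ p ≫ aY) =
      p ≫ aY from Sigma.hom_ext _ _ fun n => Sigma.ι_desc _ _)).trans ?_
    exact (assoc _ _ _).trans ((congr_arg (p ≫ ·) (IsIso.hom_inv_id aY)).trans (comp_id p))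
  · exact (congr_arg (_ ≫ ·) ((shiftFunctor D (1 : ℤ)).map_id _)).trans (comp_id _)

end Resolution

section Orthogonal

variable [IsTriangulated D]

omit [HasCoproducts.{v} D] in
/-- Objects reachable from `P` receive no maps from an object orthogonal to all shifts of `P`. -/
theorem eq_zero_of_triangEnvelope (P : ObjectProperty D) [P.Nonempty] (K : D)
    (h : ∀ X, P X → ∀ (n : ℤ) (f : X ⟶ K⟦n⟧), f = 0) {X : D} (hX : P.triangEnvelope X)
    (n : ℤ) (f : X ⟶ K⟦n⟧) : f = 0 := by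
  let Q : ObjectProperty D := fun X => ∀ (n : ℤ) (f : X ⟶ K⟦n⟧), f = 0
  haveI : Q.ContainsZero := ⟨⟨0, isZero_zero D, fun n f => (isZero_zero D).eq_of_src f 0⟩⟩
  haveI : Q.IsStableUnderShift ℤ := ⟨fun a => ⟨fun X hX n f => by
    let adj := (shiftEquiv D a).toAdjunction
    let e := (shiftFunctorAdd' D n (-a) (n + -a) rfl).app K
    apply (adj.homEquiv X (K⟦n⟧)).injective
    apply (cancel_mono e.inv).1
    exact (hX _ _).trans (hX _ _).symm⟩⟩
  haveI : Q.IsTriangulatedClosed₂ := ⟨fun T hT h₁ h₃ => Q.le_isoClosure _ fun n f => by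
    obtain ⟨g, rfl⟩ := Triangle.yoneda_exact₂ T hT f (h₁ n _)
    rw [h₃ n g, comp_zero]⟩
  haveI : Q.IsTriangulated := by constructor
  haveI : Q.IsStableUnderRetracts := ⟨fun {X Y} r hY n f => by
    rw [← id_comp f, ← r.retract, assoc, hY n (r.r ≫ f), comp_zero]⟩
  exact (ObjectProperty.triangEnvelope_le_iff P (Q := Q)).2 h X hX n f

end Orthogonal

/-- Bijectivity on maps from a shifted object. -/
theorem bijective_comp_shift {C X Y : D} (f : X ⟶ Y) (n : ℤ)
    (h : Function.Bijective fun g : C⟦-n⟧ ⟶ X => g ≫ f) :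
    Function.Bijective fun g : C ⟶ X⟦n⟧ => g ≫ f⟦n⟧' := by
  let adj := (shiftEquiv D n).symm.toAdjunction
  rw [show (fun g : C ⟶ X⟦n⟧ => g ≫ f⟦n⟧') =
      (adj.homEquiv C Y) ∘ (fun g => g ≫ f) ∘ (adj.homEquiv C X).symm from
    funext fun g => ((adj.homEquiv C Y).symm_apply_eq).1 (adj.homEquiv_naturality_right_symm g f)]
  exact (adj.homEquiv C Y).bijective.comp (h.comp (adj.homEquiv C X).symm.bijective)

end Groth.Agent.BrownRep
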