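import Groth.Agent.BrownRep.Basic

/-!
# Brown representability: the main theorem
-/

set_option linter.style.haveILetI false
set_option linter.unusedSectionVars false

universe v u

open CategoryTheory Limits Pretriangulated Category Opposite
open CategoryTheory.Pretriangulated.Opposite

namespace Groth.Agent.BrownRep

variable {D : Type u} [Category.{v} D] [Preadditive D] [HasZeroObject D] [HasShift D ℤ]
  [∀ n : ℤ, (shiftFunctor D n).Additive] [Pretriangulated D]

/-- Maps which are bijective on a generating family (in all shifts) are isomorphisms. -/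
theorem isIso_of_bijective {ι : Type*} (S : ι → D)
    (hdet : ∀ C : D, (∀ (i : ι) (n : ℤ) (g : S i ⟶ C⟦n⟧), g = 0) → IsZero C)
    {X Y : D} (f : X ⟶ Y)
    (hf : ∀ (i : ι) (n : ℤ), Function.Bijective fun g : S i ⟶ X⟦n⟧ => g ≫ f⟦n⟧') : IsIso f := by
  obtain ⟨C, g, h, hT⟩ := distinguished_cocone_triangle f
  refine (Triangle.isZero₃_iff_isIso₁ _ hT).1 (hdet C fun i n β => ?_)
  have hT' := Triangle.shift_distinguished _ hT n
  let e := (shiftFunctorComm D 1 n).hom.app X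
  have h1 : β ≫ h⟦n⟧' = 0 := by
    apply (cancel_mono e).1
    let e' := (shiftFunctorAdd' D (1 : ℤ) n (1 + n) rfl).app X
    rw [← cancel_mono ((shiftFunctorComm D 1 n).inv.app X ≫ e'.inv)]
    simp only [zero_comp, assoc, e, Iso.hom_inv_id_app_assoc]
    refine (hf i (1 + n)).1 ?_
    have h2 : h ≫ f⟦(1 : ℤ)⟧' = 0 := comp_distTriang_mor_zero₃₁ _ hT
    dsimp only
    rw [zero_comp, assoc, assoc]
    refine (congr_arg (β ≫ ·) (congr_arg ((h⟦n⟧') ≫ ·)
      ((shiftFunctorAdd' D (1 : ℤ) n (1 + n) rfl).inv.naturality f).symm)).trans ?_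
    simp only [Functor.comp_map]
    rw [← Functor.map_comp_assoc, h2, Functor.map_zero, zero_comp, comp_zero]
  obtain ⟨δ, hδ⟩ : ∃ δ, β = δ ≫ (n.negOnePow • g⟦n⟧') := Triangle.coyoneda_exact₃ _ hT' β
    (show β ≫ (n.negOnePow • h⟦n⟧' ≫ e) = 0 by
      rw [Linear.comp_units_smul, ← assoc, h1, zero_comp, smul_zero])
  obtain ⟨γ, hγ⟩ := (hf i n).2 δ
  rw [hδ, ← hγ, Linear.comp_units_smul, assoc, ← Functor.map_comp,
    show f ≫ g = 0 from comp_distTriang_mor_zero₁₂ _ hT, Functor.map_zero, comp_zero, smul_zero]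

variable [HasCoproducts.{v} D] [HasColimitsOfShape (Discrete ℕ) D]

/-- A class of objects containing `E` and closed under coproducts and cones. -/
structure IsClosed {ι : Type v} (E : ι → D) (P : D → Prop) : Prop where
  of : ∀ i, P (E i)
  sigma : ∀ {κ : Type v} (X : κ → D), (∀ k, P (X k)) → P (∐ X)
  sigmaNat : ∀ (X : ℕ → D), (∀ k, P (X k)) → P (∐ X)
  cone : ∀ T ∈ distTriang D, P T.obj₁ → P T.obj₂ → P T.obj₃

section

variable (H : Dᵒᵖ ⥤ AddCommGrpCat.{v}) [H.IsHomological]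
  [∀ κ : Type v, PreservesLimitsOfShape (Discrete κ) H]
  [PreservesLimitsOfShape (Discrete ℕ) H]
  {ι : Type v} (E : ι → D)

/-- Objects in every class containing `E` closed under coproducts and cones. -/
def Built (X : D) : Prop := ∀ P, IsClosed E P → P X

theorem exists_step (p : Σ X : D, El H X) (hp : Built E p.1) :
    ∃ (p' : Σ X : D, El H X) (t : p.1 ⟶ p'.1), Built E p'.1 ∧ pb H t p'.2 = p.2 ∧
      ∀ i (g : E i ⟶ p.1), pb H g p.2 = 0 → g ≫ t = 0 := by
  obtain ⟨X, a⟩ := p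
  let c : (∐ fun q : {q : Σ i, (E i ⟶ X) // pb H q.2 a = 0} => E q.1.1) ⟶ X :=
    Limits.Sigma.desc fun q => q.1.2
  obtain ⟨X', t, δ, hT⟩ := distinguished_cocone_triangle c
  obtain ⟨a', ha'⟩ := el_exact H _ hT a (el_ext H _ _ fun q => by
    refine ((pb_comp H (Sigma.ι _ q) c a).symm.trans ?_).trans (pb_map_zero H _).symm
    simpa [c] using q.2)
  refine ⟨⟨X', a'⟩, t, fun P hP => hP.cone _ hT (hP.sigma _ fun _ => hP.of _) (hp P hP), ha',
    fun i g hg => ?_⟩
  refine ((congr_arg (· ≫ t)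
    (Sigma.ι_desc (f := fun q : {q : Σ i, (E i ⟶ X) // pb H q.2 a = 0} => E q.1.1)
      (fun q => q.1.2) ⟨⟨i, g⟩, hg⟩)).symm.trans ?_)
  dsimp only
  rw [assoc]
  exact (congr_arg (_ ≫ ·) (comp_distTriang_mor_zero₁₂ _ hT)).trans comp_zero

/-- The main construction. -/
theorem exists_built (hE : Perfect E) (hsh : ∀ i (n : ℤ), ∃ j, Nonempty (E j ≅ (E i)⟦n⟧)) :
    ∃ (Y : D) (aY : El H Y), Built E Y ∧
      ∀ i, Function.Bijective fun g : E i ⟶ Y => pb H g aY := by
  let P := {p : Σ X : D, El H X // Built E p.1}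
  obtain ⟨a₀, ha₀⟩ := el_desc H (fun q : Σ i, El H (E i) => E q.1) fun q => q.2
  choose next t hnext ht hkill using fun p : P => exists_step H E p.1 p.2
  let seq : ℕ → P := Nat.rec
    ⟨⟨_, a₀⟩, fun Q hQ => hQ.sigma _ fun _ => hQ.of _⟩ fun _ p => ⟨next p, hnext p⟩
  obtain ⟨Y, p, δ, aY, hT, hb⟩ := exists_tower_colimit H hE hsh (fun n => (seq n).1.2)
    (fun n => t (seq n)) (fun n => hkill (seq n)) (fun n => ht (seq n))
    (fun i b => ⟨_, ha₀ ⟨i, b⟩⟩)
  exact ⟨Y, aY, fun Q hQ =>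
    hQ.cone _ hT (hQ.sigmaNat _ fun n => (seq n).2 Q hQ) (hQ.sigmaNat _ fun n => (seq n).2 Q hQ),
    hb⟩

end

variable {ι : Type v} {E : ι → D} (hE : Perfect E)
  (hsh : ∀ i (n : ℤ), ∃ j, Nonempty (E j ≅ (E i)⟦n⟧))
  (hdet : ∀ X : D, (∀ i (f : E i ⟶ X), f = 0) → IsZero X)

include hE hsh hdet in
/-- Every object is built from a perfect generating family. -/
theorem built (W : D) {P : D → Prop} (hP : IsClosed E P)
    (hiso : ∀ {X Y : D}, (X ≅ Y) → P X → P Y) : P W := by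
  haveI := preservesLimitsOfShape_of_equiv
    (Discrete.equivalence (Equiv.ulift.{v} (α := ℕ))) (preadditiveYoneda.obj W)
  obtain ⟨Y, f, hY, hb⟩ := exists_built (preadditiveYoneda.obj W) E hE hsh
  change Y ⟶ W at f
  haveI : IsIso f := isIso_of_bijective E
    (fun C hC => hdet C fun i g => by
      rw [← cancel_mono ((shiftFunctorZero D ℤ).inv.app C), zero_comp]
      exact hC i 0 _) f fun i n => by
    obtain ⟨j, ⟨e⟩⟩ := hsh i (-n)
    let m : ∀ Z : D, (E i ⟶ Z⟦n⟧) ≃ (E j ⟶ Z) := fun Z =>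
      (((shiftEquiv D n).symm.toAdjunction.homEquiv (E i) Z).symm).trans (e.symm.homFromEquiv)
    have hm : ∀ g : E i ⟶ Y⟦n⟧, m W (g ≫ f⟦n⟧') = m Y g ≫ f := fun g => by
      let adj := (shiftEquiv D n).symm.toAdjunction
      show e.hom ≫ (adj.homEquiv (E i) W).symm (g ≫ f⟦n⟧') =
        (e.hom ≫ (adj.homEquiv (E i) Y).symm g) ≫ f
      rw [assoc]
      exact congr_arg (e.hom ≫ ·) (adj.homEquiv_naturality_right_symm g f)
    rw [show (fun g : E i ⟶ Y⟦n⟧ => g ≫ f⟦n⟧') = (m W).symm ∘ (fun g => g ≫ f) ∘ m Y from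
      funext fun g => ((m W).eq_symm_apply).2 (hm g)]
    exact (m W).symm.bijective.comp ((hb j).comp (m Y).bijective)
  exact hiso (asIso f) (hY P hP)

variable (H : Dᵒᵖ ⥤ AddCommGrpCat.{v}) [H.IsHomological]
  [∀ κ : Type v, PreservesLimitsOfShape (Discrete κ) H]

include hE hsh hdet in
/-- Brown representability. -/
theorem isRepresentable : (H ⋙ forget AddCommGrpCat.{v}).IsRepresentable := by
  haveI := preservesLimitsOfShape_of_equiv (Discrete.equivalence (Equiv.ulift.{v} (α := ℕ))) H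
  obtain ⟨Y, aY, -, hb⟩ := exists_built H E hE hsh
  let φ (X : D) (g : X ⟶ Y) : El H X := pb H g aY
  have φ_comp : ∀ {X X' : D} (h : X ⟶ X') (g : X' ⟶ Y), φ X (h ≫ g) = pb H h (φ X' g) :=
    fun h g => pb_comp H h g aY
  have φ_iso : ∀ {X X' : D}, (X ≅ X') → Function.Bijective (φ X) → Function.Bijective (φ X') := by
    intro X X' e hX
    refine ⟨fun g g' hg => (cancel_epi e.hom).1 (hX.1 (by rw [φ_comp, φ_comp, hg])), fun b => ?_⟩
    obtain ⟨g, hg⟩ := hX.2 (pb H e.hom b)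
    refine ⟨e.inv ≫ g, ?_⟩
    rw [φ_comp, hg, ← pb_comp, e.inv_hom_id, pb_id]
  have φ_sigma : ∀ {κ : Type v} (X : κ → D), (∀ k, Function.Bijective (φ (X k))) →
      Function.Bijective (φ (∐ X)) := by
    intro κ X hX
    refine ⟨fun g g' hg => Sigma.hom_ext _ _ fun k => (hX k).1 (by rw [φ_comp, φ_comp, hg]),
      fun b => ?_⟩
    choose g hg using fun k => (hX k).2 (pb H (Sigma.ι X k) b)
    exact ⟨Limits.Sigma.desc g, el_ext H _ _ fun k => by rw [← φ_comp, Sigma.ι_desc, hg]⟩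
  have φ_sigmaNat : ∀ (X : ℕ → D), (∀ k, Function.Bijective (φ (X k))) →
      Function.Bijective (φ (∐ X)) := by
    intro X hX
    refine ⟨fun g g' hg => Sigma.hom_ext _ _ fun k => (hX k).1 (by rw [φ_comp, φ_comp, hg]),
      fun b => ?_⟩
    choose g hg using fun k => (hX k).2 (pb H (Sigma.ι X k) b)
    exact ⟨Limits.Sigma.desc g, el_ext H _ _ fun k => by rw [← φ_comp, Sigma.ι_desc, hg]⟩
  let Good : D → Prop := fun W => ∀ n : ℤ, Function.Bijective (φ (W⟦n⟧))
  have good_iso : ∀ {X X' : D}, (X ≅ X') → Good X → Good X' := fun e h n =>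
    φ_iso ((shiftFunctor D n).mapIso e) (h n)
  have hclosed : IsClosed E Good := by
    refine ⟨fun i n => ?_, fun X hX n => ?_, fun X hX n => ?_, fun T hT h₁ h₂ n => ?_⟩
    · obtain ⟨j, ⟨e⟩⟩ := hsh i n
      exact φ_iso e (hb j)
    · exact φ_iso (PreservesCoproduct.iso (shiftFunctor D n) X).symm (φ_sigma _ fun k => hX k n)
    · exact φ_iso (PreservesCoproduct.iso (shiftFunctor D n) X).symm (φ_sigmaNat _ fun k => hX k n)
    · have hS := Triangle.shift_distinguished _ hT n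
      generalize hS' : (shiftFunctor (Triangle D) n).obj T = S at hS
      have b₁ : Function.Bijective (φ S.obj₁) := by subst hS'; exact h₁ n
      have b₂ : Function.Bijective (φ S.obj₂) := by subst hS'; exact h₂ n
      have b₁' : Function.Bijective (φ (S.obj₁⟦(1 : ℤ)⟧)) := by
        subst hS'
        exact φ_iso ((shiftFunctorAdd' D n 1 (n + 1) rfl).app T.obj₁) (h₁ (n + 1))
      have b₂' : Function.Bijective (φ (S.obj₂⟦(1 : ℤ)⟧)) := by
        subst hS'
        exact φ_iso ((shiftFunctorAdd' D n 1 (n + 1) rfl).app T.obj₂) (h₂ (n + 1))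
      suffices Function.Bijective (φ S.obj₃) by subst hS'; exact this
      have z : ∀ {X : D}, φ X 0 = 0 := pb_zero H aY
      refine ⟨fun g g' hgg => ?_, fun c => ?_⟩
      · suffices ∀ g : S.obj₃ ⟶ Y, φ _ g = 0 → g = 0 from
          sub_eq_zero.1 (this (g - g') (by
            show pb H (g - g') aY = 0
            rw [pb_sub]
            exact sub_eq_zero.2 hgg))
        intro g hg
        obtain ⟨k, rfl⟩ := Triangle.yoneda_exact₃ S hS g (b₂.1 (by
          rw [φ_comp, hg, pb_map_zero, z]))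
        obtain ⟨b, hb'⟩ : ∃ b, pb H (-(S.mor₁⟦(1 : ℤ)⟧')) b = φ _ k :=
          el_exact H _ (rot_of_distTriang _ (rot_of_distTriang _ hS)) _
            ((φ_comp S.mor₃ k).symm.trans hg)
        obtain ⟨l, rfl⟩ := b₂'.2 b
        rw [← φ_comp] at hb'
        rw [← b₁'.1 hb', ← assoc, Preadditive.comp_neg, comp_distTriang_mor_zero₃₁ _ hS, neg_zero,
          zero_comp]
      · obtain ⟨g₂, hg₂⟩ := b₂.2 (pb H S.mor₂ c)
        obtain ⟨g, rfl⟩ := Triangle.yoneda_exact₂ S hS g₂ (b₁.1 (by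
          rw [φ_comp, hg₂, ← pb_comp, comp_distTriang_mor_zero₁₂ _ hS, pb_zero, z]))
        obtain ⟨d, hd⟩ : ∃ d, pb H S.mor₃ d = c - φ _ g :=
          el_exact H _ (rot_of_distTriang _ hS) _ (by
            show pb H S.mor₂ _ = 0
            rw [pb_map_sub, ← hg₂, ← φ_comp, sub_self])
        obtain ⟨k, rfl⟩ := b₁'.2 d
        rw [← φ_comp] at hd
        refine ⟨g + S.mor₃ ≫ k, (pb_add H _ _ aY).trans ?_⟩
        show φ _ g + φ _ (S.mor₃ ≫ k) = c
        rw [hd, add_sub_cancel]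
  have hall : ∀ X : D, Function.Bijective (φ X) := fun X =>
    φ_iso ((shiftFunctorZero D ℤ).app X) (built hE hsh hdet X hclosed good_iso 0)
  exact ⟨⟨Y, ⟨{
    homEquiv := fun {X} => Equiv.ofBijective (φ X) (hall X)
    homEquiv_comp := fun f g => φ_comp f g }⟩⟩⟩

end Groth.Agent.BrownRep
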