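import Groth.Agent.BrownRep.Main
import Groth.Prelude.Def_CohDer

/-!
# Brown representability for unshifted perfect families, and adjoints
-/

set_option linter.style.haveILetI false
set_option linter.unusedSectionVars false

universe v u u'

open CategoryTheory Limits Pretriangulated Category Opposite
open CategoryTheory.Pretriangulated.Opposite

namespace Groth.Agent.BrownRep

variable {D : Type u} [Category.{v} D] [Preadditive D] [HasZeroObject D] [HasShift D ℤ]
  [∀ n : ℤ, (shiftFunctor D n).Additive] [Pretriangulated D] [HasCoproducts.{v} D]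
  [HasColimitsOfShape (Discrete ℕ) D]

section

variable {ι : Type v} (E : ι → D)

/-- All shifts of a family of objects. -/
abbrev shiftFamily (p : ι × ULift.{v} ℤ) : D := (E p.1)⟦p.2.down⟧

theorem shiftFamily_shift (p : ι × ULift.{v} ℤ) (n : ℤ) :
    ∃ q, Nonempty (shiftFamily E q ≅ (shiftFamily E p)⟦n⟧) :=
  ⟨(p.1, ⟨p.2.down + n⟩), ⟨(shiftFunctorAdd D p.2.down n).app (E p.1)⟩⟩

variable {E}

theorem perfect_shiftFamily (hE : Perfect E) : Perfect (shiftFamily E) := by
  rintro X ⟨i, ⟨n⟩⟩ α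
  let adj := (shiftEquiv D n).toAdjunction
  let S := shiftFunctor D n
  let S' := shiftFunctor D (-n)
  obtain ⟨j, β, γ, hγ⟩ := hE (fun k => S'.obj (X k)) i
    (adj.homEquiv _ _ α ≫ (PreservesCoproduct.iso S' X).hom)
  let β' : ∀ k, S.obj (E (j k)) ⟶ X k := fun k => (adj.homEquiv _ _).symm (β k)
  let ψ : (∐ fun k => E (j k)) ⟶ S'.obj (∐ fun k => S.obj (E (j k))) :=
    Limits.Sigma.desc fun k => adj.homEquiv _ _ (Sigma.ι (fun k => S.obj (E (j k))) k)
  refine ⟨fun k => (j k, ⟨n⟩), β', (adj.homEquiv _ _).symm (γ ≫ ψ), ?_⟩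
  have key : Limits.Sigma.map β ≫ (PreservesCoproduct.iso S' X).inv =
      ψ ≫ S'.map (Limits.Sigma.map β') := Sigma.hom_ext _ _ fun k => by
    simp only [ψ, Sigma.ι_desc_assoc, PreservesCoproduct.inv_hom,
      Sigma.ι_map_assoc, ι_comp_sigmaComparison]
    refine ((congr_arg (· ≫ S'.map (Sigma.ι X k))
      ((adj.homEquiv _ _).apply_symm_apply (β k))).symm.trans ?_)
    refine (adj.homEquiv_naturality_right (β' k) (Sigma.ι X k)).symm.trans ?_
    exact (congr_arg _ (Sigma.ι_map β' k).symm).trans (adj.homEquiv_naturality_right _ _)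
  have h1 : adj.homEquiv (E i) (∐ X) α = (γ ≫ ψ) ≫ S'.map (Limits.Sigma.map β') :=
    ((Iso.eq_comp_inv _).2 hγ).trans
      ((assoc _ _ _).trans ((congr_arg (γ ≫ ·) key).trans (assoc _ _ _).symm))
  exact ((adj.homEquiv _ _).symm_apply_apply α).symm.trans
    ((congr_arg _ h1).trans (adj.homEquiv_naturality_right_symm (γ ≫ ψ) (Limits.Sigma.map β')))

theorem detects_shiftFamily
    (h : ∀ C : D, (∀ (i : ι) (n : ℤ) (g : E i ⟶ C⟦n⟧), g = 0) → IsZero C) (X : D)
    (hX : ∀ p (f : shiftFamily E p ⟶ X), f = 0) : IsZero X := by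
  refine h X fun i n g => ?_
  let adj := (shiftEquiv D n).symm.toAdjunction
  apply (adj.homEquiv (E i) X).symm.injective
  rw [hX (i, ⟨-n⟩) ((adj.homEquiv (E i) X).symm g)]
  exact (hX (i, ⟨-n⟩) _).symm

variable (H : Dᵒᵖ ⥤ AddCommGrpCat.{v}) [H.IsHomological]
  [∀ κ : Type v, PreservesLimitsOfShape (Discrete κ) H]

/-- Brown representability for a perfect family detecting zero objects. -/
theorem isRepresentable_of_perfect (hE : Perfect E)
    (h : ∀ C : D, (∀ (i : ι) (n : ℤ) (g : E i ⟶ C⟦n⟧), g = 0) → IsZero C) :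
    (H ⋙ forget AddCommGrpCat.{v}).IsRepresentable :=
  isRepresentable (perfect_shiftFamily hE) (shiftFamily_shift E) (detects_shiftFamily h) H

end

variable {D' : Type u'} [Category.{v} D'] [Preadditive D'] [HasZeroObject D'] [HasShift D' ℤ]
  [∀ n : ℤ, (shiftFunctor D' n).Additive] [Pretriangulated D']

/-- Exact functors preserving coproducts are left adjoints as soon as homological functors with
values turning coproducts to products are representable. -/
theorem isLeftAdjoint_of_representable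
    (hD : ∀ (H : Dᵒᵖ ⥤ AddCommGrpCat.{v}) [H.IsHomological]
      [∀ κ : Type v, PreservesLimitsOfShape (Discrete κ) H],
      (H ⋙ forget AddCommGrpCat.{v}).IsRepresentable)
    (F : D ⥤ D') [F.CommShift ℤ] [F.IsTriangulated]
    [∀ κ : Type v, PreservesColimitsOfShape (Discrete κ) F] : F.IsLeftAdjoint := by
  refine Functor.isLeftAdjoint_of_rightAdjointObjIsDefined_eq_top ?_
  ext Y
  simp only [Functor.rightAdjointObjIsDefined_iff, Pi.top_apply, Prop.top_eq_true, iff_true]
  haveI : ∀ κ : Type v, PreservesLimitsOfShape (Discrete κ) F.op := fun κ => by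
    haveI := preservesColimitsOfShape_of_equiv (Discrete.opposite κ).symm F
    exact preservesLimitsOfShape_op _ _
  haveI := hD (F.op ⋙ preadditiveYoneda.obj Y)
  obtain ⟨⟨X, ⟨r⟩⟩⟩ := this
  exact ⟨⟨X, ⟨{ homEquiv := r.homEquiv, homEquiv_comp := r.homEquiv_comp }⟩⟩⟩

omit [HasColimitsOfShape (Discrete ℕ) D] in
/-- A family of compact objects is perfect. -/
theorem perfect_of_compact [HasColimitsOfShape (Discrete ℕ) D] {ι : Type v} {E : ι → D}
    (hE : ∀ i, CohDer.IsCompactObject (E i)) : Perfect E := by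
  classical
  intro X i α
  let X' : ULift.{v} ℕ → D := fun k => X k.down
  let e : (∐ X) ⟶ ∐ X' := Limits.Sigma.desc fun k => Sigma.ι X' ⟨k⟩
  let e' : (∐ X') ⟶ ∐ X := Limits.Sigma.desc fun k => Sigma.ι X k.down
  have he : e ≫ e' = 𝟙 _ := Sigma.hom_ext _ _ fun k => by simp [e, e']
  obtain ⟨x, hx⟩ := (hE i _ X').2 (α ≫ e)
  refine ⟨fun _ => i, fun k => x ⟨k⟩,
    ∑ k ∈ DFinsupp.support x, Sigma.ι (fun _ : ℕ => E i) k.down, ?_⟩
  replace hx := congr_arg (· ≫ e') hx
  simp only [assoc, he, comp_id] at hx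
  have hof : ∀ k (f : E i ⟶ X' k), CohDer.homSumToHomCoprod (E i) X'
      (DirectSum.of (fun k => E i ⟶ X' k) k f) ≫ e' = f ≫ Sigma.ι X k.down := fun k f => by
    have : CohDer.homSumToHomCoprod (E i) X' (DirectSum.of (fun k => E i ⟶ X' k) k f) =
        f ≫ Sigma.ι X' k := by
      unfold CohDer.homSumToHomCoprod
      convert DirectSum.toAddMonoid_of (fun k => Preadditive.rightComp (E i) (Sigma.ι X' k)) k f
        using 1
      · congr!
      · rfl
    rw [this]
    simp [e']
  rw [← hx]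
  conv_lhs => rw [← DirectSum.sum_support_of x, map_sum, Preadditive.sum_comp]
  rw [Preadditive.sum_comp]
  refine Finset.sum_congr rfl fun k _ => ?_
  rw [hof]
  simp

end Groth.Agent.BrownRep
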