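import Groth.Agent.BrownRep.Adjoint
import Groth.Agent.KInj.DerivedAdj
import Groth.Agent.KInj.Products

/-!
# Brown representability for the derived category of a Grothendieck abelian category
-/

set_option linter.style.haveILetI false
set_option linter.unusedSectionVars false

universe v u u'

open CategoryTheory Limits Pretriangulated Category Opposite
open CategoryTheory.Pretriangulated.Opposite

namespace Groth.Agent.BrownRep

section

variable (A : Type u) [Category.{v} A] [Abelian A] [IsGrothendieckAbelian.{v} A]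

/-- A derived category with small morphism types. -/
@[implicit_reducible]
noncomputable def smallDerivedCategory : HasDerivedCategory.{v} A :=
  letI := HasDerivedCategory.standard A
  haveI : LocallySmall.{v} (DerivedCategory A) := ⟨fun X Y => by
    have hres := KInj.hres_of_isGrothendieckAbelian A
    haveI : (DerivedCategory.Qh (C := A)).EssSurj :=
      Localization.essSurj _ (HomotopyCategory.quasiIso A (ComplexShape.up ℤ))
    exact small_map ((((DerivedCategory.Qh).objObjPreimageIso X).symm.homFromEquiv).trans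
      (KInj.modelHomEquiv hres _ Y))⟩
  { D := ShrinkHoms (DerivedCategory A)
    L := DerivedCategory.Q ⋙ ShrinkHoms.functor _
    hL := Functor.IsLocalization.of_equivalence_target DerivedCategory.Q
      (HomologicalComplex.quasiIso A (ComplexShape.up ℤ)) _ (ShrinkHoms.equivalence _) (Iso.refl _) }

end

section

variable {A : Type u} [Category.{v} A] [Abelian A] [HasDerivedCategory.{v} A]

theorem hasCoproducts_derivedCategory [IsGrothendieckAbelian.{v} A] :
    HasCoproducts.{v} (DerivedCategory A) := by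
  intro T
  haveI := KInj.hasCoproductsOfShape_homotopyCategory (V := A) (T := T)
  haveI := KInj.reflective (KInj.hres_of_isGrothendieckAbelian A)
  exact hasColimitsOfShape_of_reflective (KInj.rightAdj (KInj.hres_of_isGrothendieckAbelian A))

end

section

variable (R : Type v) [Ring R] [HasDerivedCategory.{v} (ModuleCat.{v} R)]

/-- The complex `R` in degree `0`. -/
noncomputable abbrev ringComplex : CochainComplex (ModuleCat.{v} R) ℤ :=
  (HomologicalComplex.single (ModuleCat.{v} R) (ComplexShape.up ℤ) 0).obj (ModuleCat.of R R)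

/-- The generator of `D(Mod R)`. -/
noncomputable abbrev ringObj : DerivedCategory (ModuleCat.{v} R) :=
  DerivedCategory.Qh.obj ((HomotopyCategory.quotient _ _).obj (ringComplex R))

instance isKProjective_ringComplex : (ringComplex R).IsKProjective := by
  haveI : ∀ n, Projective ((ringComplex R).X n) := fun n => by
    by_cases hn : n = 0
    · subst hn
      exact Projective.of_iso (HomologicalComplex.singleObjXSelf (ComplexShape.up ℤ) 0
        (ModuleCat.of R R)).symm inferInstance
    · exact (HomologicalComplex.isZero_single_obj_X (ComplexShape.up ℤ) 0 _ n hn).projective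
  exact CochainComplex.isKProjective_of_projective _ 0

variable {R}

theorem ringComplex_hom_surjective (K : CochainComplex (ModuleCat.{v} R) ℤ)
    (α : ringObj R ⟶ DerivedCategory.Qh.obj ((HomotopyCategory.quotient _ _).obj K)) :
    ∃ a : ringComplex R ⟶ K,
      DerivedCategory.Qh.map ((HomotopyCategory.quotient _ _).map a) = α := by
  obtain ⟨f, rfl⟩ := (CochainComplex.IsKProjective.Qh_map_bijective (ringComplex R)
    ((HomotopyCategory.quotient _ _).obj K)).surjective α
  obtain ⟨a, rfl⟩ := (HomotopyCategory.quotient _ _).map_surjective f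
  exact ⟨a, rfl⟩

/-- The element defining a map out of `R[0]`. -/
noncomputable def elt {K : CochainComplex (ModuleCat.{v} R) ℤ} (a : ringComplex R ⟶ K) : K.X 0 :=
  ((HomologicalComplex.singleObjXSelf (ComplexShape.up ℤ) 0 (ModuleCat.of R R)).inv ≫ a.f 0).hom
    (1 : R)

theorem elt_comp {K L : CochainComplex (ModuleCat.{v} R) ℤ} (a : ringComplex R ⟶ K) (g : K ⟶ L) :
    elt (a ≫ g) = (g.f 0).hom (elt a) := rfl

theorem elt_injective {K : CochainComplex (ModuleCat.{v} R) ℤ} (a b : ringComplex R ⟶ K)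
    (h : elt a = elt b) : a = b := by
  refine HomologicalComplex.from_single_hom_ext ?_
  rw [← cancel_epi (HomologicalComplex.singleObjXSelf (ComplexShape.up ℤ) 0 (ModuleCat.of R R)).inv]
  exact ModuleCat.hom_ext (LinearMap.ext_ring h)

theorem exists_elt {K : CochainComplex (ModuleCat.{v} R) ℤ} (x : K.X 0)
    (hx : (K.d 0 1).hom x = 0) : ∃ a : ringComplex R ⟶ K, elt a = x := by
  refine ⟨HomologicalComplex.mkHomFromSingle
    (ModuleCat.ofHom ((LinearMap.id : R →ₗ[R] R).smulRight x)) (fun j hj => ?_), ?_⟩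
  · obtain rfl : 0 + 1 = j := hj
    exact ModuleCat.hom_ext (LinearMap.ext_ring (by simpa using hx))
  · simp [elt]

theorem perfect_ringObj [HasCoproducts.{v} (DerivedCategory (ModuleCat.{v} R))]
    [HasColimitsOfShape (Discrete ℕ) (DerivedCategory (ModuleCat.{v} R))] :
    Perfect (fun _ : PUnit.{v + 1} => ringObj R) := by
  classical
  intro X i α
  let q := HomotopyCategory.quotient (ModuleCat.{v} R) (ComplexShape.up ℤ)
  have hK : ∀ n, ∃ K : CochainComplex (ModuleCat.{v} R) ℤ,
      Nonempty (DerivedCategory.Qh.obj (q.obj K) ≅ X n) := fun n => by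
    obtain ⟨K, -, e⟩ := KInj.exists_kInjective_iso
      (KInj.hres_of_isGrothendieckAbelian (ModuleCat.{v} R)) (X n)
    exact ⟨K, e⟩
  choose K e using hK
  let t : ∀ n, DerivedCategory.Qh.obj (q.obj (K n)) ⟶ X n := fun n => (e n).some.hom
  have hq : IsColimit (Cofan.mk (q.obj (∐ K)) fun n => q.map (Sigma.ι K n)) := by
    refine Cofan.IsColimit.mk _
      (fun s => q.map (Limits.Sigma.desc fun n => (q.map_surjective (s.inj n)).choose))
      (fun s n => ?_) (fun s m hm => ?_)
    · simp only [cofan_mk_inj]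
      exact (q.map_comp _ _).symm.trans
        ((congr_arg q.map (Sigma.ι_desc _ _)).trans (q.map_surjective (s.inj n)).choose_spec)
    · obtain ⟨m, rfl⟩ := q.map_surjective m
      obtain ⟨H⟩ := KInj.homotopic_zero_of_coproduct (coproductIsCoproduct K)
        (m - Limits.Sigma.desc fun n => (q.map_surjective (s.inj n)).choose) fun n => by
          refine ⟨HomotopyCategory.homotopyOfEq _ _ ?_⟩
          have h1 := hm n
          simp only [cofan_mk_inj] at h1
          rw [Functor.map_zero, cofan_mk_inj, Preadditive.comp_sub, Functor.map_sub, sub_eq_zero,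
            Sigma.ι_desc]
          exact (q.map_comp _ _).trans (h1.trans (q.map_surjective (s.inj n)).choose_spec.symm)
      have := HomotopyCategory.eq_of_homotopy _ _ H
      rwa [Functor.map_zero, Functor.map_sub, sub_eq_zero] at this
  haveI := (KInj.qhAdjunction (KInj.hres_of_isGrothendieckAbelian (ModuleCat.{v} R))).isLeftAdjoint
  let hQ := isColimitCofanMkObjOfIsColimit DerivedCategory.Qh _ _ hq
  let Φ : DerivedCategory.Qh.obj (q.obj (∐ K)) ≅ ∐ X :=
    hQ.coconePointUniqueUpToIso (coproductIsCoproduct _) ≪≫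
      Limits.Sigma.mapIso (fun n => (e n).some)
  have hΦ : ∀ n, DerivedCategory.Qh.map (q.map (Sigma.ι K n)) ≫ Φ.hom = t n ≫ Sigma.ι X n :=
    fun n => by
      refine (assoc _ _ _).symm.trans ((congr_arg (· ≫ _)
        (hQ.comp_coconePointUniqueUpToIso_hom (coproductIsCoproduct _) ⟨n⟩)).trans ?_)
      simp [t]
  obtain ⟨a, ha⟩ := ringComplex_hom_surjective (∐ K) (α ≫ Φ.inv)
  -- the finite support of `elt a`
  let M : Submodule R ((∐ K).X 0) := ⨆ n, LinearMap.range ((Sigma.ι K n).f 0).hom
  have hM : elt a ∈ M := by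
    rw [← Submodule.Quotient.mk_eq_zero]
    have : ModuleCat.ofHom M.mkQ = 0 :=
      (isColimitOfPreserves (HomologicalComplex.eval (ModuleCat.{v} R) (ComplexShape.up ℤ) 0)
        (coproductIsCoproduct K)).hom_ext fun ⟨n⟩ => ModuleCat.hom_ext (LinearMap.ext fun y => by
          exact (Submodule.Quotient.mk_eq_zero M).2
            (le_iSup (fun n => LinearMap.range ((Sigma.ι K n).f 0).hom) n ⟨y, rfl⟩))
    exact congr_arg (fun f => f.hom (elt a)) this
  obtain ⟨f, hf, hx⟩ := (Submodule.mem_iSup_iff_exists_finsupp _ _).1 hM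
  have hπ : ∀ n m (y : (K n).X 0), ((Sigma.π K m).f 0).hom (((Sigma.ι K n).f 0).hom y) =
      if h : n = m then h ▸ y else 0 := fun n m y => by
    rw [← ModuleCat.comp_apply, ← HomologicalComplex.comp_f]
    split_ifs with h
    · subst h
      simp
    · simp [Sigma.ι_π_of_ne _ h]
  have hsum : a = ∑ n ∈ f.support, (a ≫ Sigma.π K n) ≫ Sigma.ι K n := elt_injective _ _ (by
    have hadd : ∀ (s : Finset ℕ) (g : ℕ → (ringComplex R ⟶ ∐ K)),
        elt (∑ n ∈ s, g n) = ∑ n ∈ s, elt (g n) := fun s g =>
      map_sum (AddMonoidHom.mk' (elt (R := R) (K := ∐ K)) fun _ _ => by simp [elt]) g s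
    rw [hadd]
    simp only [elt_comp]
    conv_lhs => rw [← hx, Finsupp.sum]
    refine Finset.sum_congr rfl fun m hm => ?_
    obtain ⟨y, hy⟩ := hf m
    rw [← hy]
    congr 1
    rw [← hx, Finsupp.sum, map_sum, Finset.sum_eq_single m]
    · rw [← hy, hπ m m, dif_pos rfl]
    · intro n _ hn
      obtain ⟨z, hz⟩ := hf n
      rw [← hz, hπ n m, dif_neg hn]
    · exact fun h => (h hm).elim)
  refine ⟨fun _ => i, fun n => DerivedCategory.Qh.map (q.map (a ≫ Sigma.π K n)) ≫ t n,
    ∑ n ∈ f.support, Sigma.ι (fun _ : ℕ => ringObj R) n, ?_⟩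
  rw [Preadditive.sum_comp, ← cancel_mono Φ.inv, ← ha]
  conv_lhs => rw [hsum]
  rw [Functor.map_sum, Functor.map_sum, Preadditive.sum_comp]
  refine Finset.sum_congr rfl fun n _ => ?_
  rw [Sigma.ι_map]
  refine ((congr_arg DerivedCategory.Qh.map (q.map_comp (a ≫ Sigma.π K n) _)).trans
    (DerivedCategory.Qh.map_comp _ _)).trans ?_
  rw [assoc, assoc]
  refine congr_arg (DerivedCategory.Qh.map (q.map (a ≫ Sigma.π K n)) ≫ ·) ?_
  rw [← assoc, ← hΦ, assoc, Iso.hom_inv_id, comp_id]

theorem detects_ringObj (C : DerivedCategory (ModuleCat.{v} R))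
    (hC : ∀ (_ : PUnit.{v + 1}) (n : ℤ) (g : ringObj R ⟶ C⟦n⟧), g = 0) : IsZero C := by
  let q := HomotopyCategory.quotient (ModuleCat.{v} R) (ComplexShape.up ℤ)
  obtain ⟨K, -, ⟨e⟩⟩ := KInj.exists_kInjective_iso
    (KInj.hres_of_isGrothendieckAbelian (ModuleCat.{v} R)) C
  refine IsZero.of_iso ?_ e.symm
  refine IsZero.of_iso ?_ ((DerivedCategory.quotientCompQhIso _).app K)
  suffices hK : K.Acyclic by
    let Z : CochainComplex (ModuleCat.{v} R) ℤ :=
      (HomologicalComplex.single _ (ComplexShape.up ℤ) 0).obj (ModuleCat.of R PUnit)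
    have hZ : IsZero Z :=
      Functor.map_isZero _ (ModuleCat.isZero_of_subsingleton _)
    haveI : QuasiIso (0 : K ⟶ Z) := ⟨fun m => by
      rw [quasiIsoAt_iff_exactAt _ m (hK m), HomologicalComplex.exactAt_iff_isZero_homology]
      exact Functor.map_isZero (HomologicalComplex.homologyFunctor _ (ComplexShape.up ℤ) m) hZ⟩
    exact IsZero.of_iso (Functor.map_isZero DerivedCategory.Q hZ)
      (asIso (DerivedCategory.Q.map (0 : K ⟶ Z)))
  intro m
  rw [K.exactAt_iff' (m - 1) m (m + 1) (by simp) (by simp),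
    ShortComplex.moduleCat_exact_iff]
  intro x hx
  change K.X m at x
  let K' := K⟦m⟧
  let i₀ : K'.X 0 ≅ K.X m := K.shiftFunctorObjXIso m 0 m (by simp)
  obtain ⟨a, ha⟩ := exists_elt (i₀.inv.hom x) (show (K'.d 0 1).hom (i₀.inv.hom x) = 0 by
    rw [← ModuleCat.comp_apply]
    simp [K', i₀, CochainComplex.shiftFunctor_obj_d']
    have hx' : ∀ j, j = m + 1 → (K.d m j).hom x = 0 := by rintro _ rfl; exact hx
    exact (congr_arg (m.negOnePow • ·) (hx' _ (add_comm _ _))).trans (smul_zero _))
  have h0 : DerivedCategory.Qh.map (q.map a) = 0 := by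
    rw [← cancel_mono ((DerivedCategory.Qh.mapIso ((q.commShiftIso m).app K) ≪≫
      (DerivedCategory.Qh.commShiftIso m).app (q.obj K)) ≪≫
        (shiftFunctor _ m).mapIso e).hom, zero_comp]
    exact hC PUnit.unit m _
  obtain ⟨H⟩ : Nonempty (Homotopy a 0) :=
    (HomotopyCategory.quotient_map_eq_zero_iff a).1
      ((CochainComplex.IsKProjective.Qh_map_bijective (ringComplex R) (q.obj K')).injective
        (h0.trans (Functor.map_zero _ _ _).symm))
  let b : K'.X (-1) := (H.hom 0 (-1)).hom
    ((HomologicalComplex.singleObjXSelf (ComplexShape.up ℤ) 0 (ModuleCat.of R R)).inv.hom (1 : R))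
  have hb : (K'.d (-1) 0).hom b = i₀.inv.hom x := by
    rw [← ha]
    have h1 := H.comm 0
    rw [dNext_eq _ (show (ComplexShape.up ℤ).Rel 0 1 by simp),
      prevD_eq _ (show (ComplexShape.up ℤ).Rel (-1) 0 by simp)] at h1
    simp [elt, b, h1, HomologicalComplex.single_obj_d]
  refine ⟨m.negOnePow • (K.shiftFunctorObjXIso m (-1) (m - 1) (by ring)).hom.hom b, ?_⟩
  have h2 : i₀.hom.hom ((K'.d (-1) 0).hom b) = x := by
    rw [hb, ← ModuleCat.comp_apply, Iso.inv_hom_id]
    rfl
  rw [← h2]
  have key : ∀ (i j : ℤ) (hi : i = m - 1) (hj : j = m) (z : K.X i),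
      (K.d (m - 1) m).hom (m.negOnePow • (K.XIsoOfEq hi).hom.hom z) =
        (K.XIsoOfEq hj).hom.hom ((m.negOnePow • (K.d i j).hom) z) := by
    rintro i j rfl rfl z
    simp [Units.smul_def, map_zsmul]
  exact key _ _ (by ring) (by ring) b

end

section

variable {D₁ : Type u} [Category.{v} D₁] [Preadditive D₁] [HasZeroObject D₁] [HasShift D₁ ℤ]
  [∀ n : ℤ, (shiftFunctor D₁ n).Additive] [Pretriangulated D₁]
  {D₂ : Type u'} [Category.{v} D₂] [Preadditive D₂] [HasZeroObject D₂] [HasShift D₂ ℤ]
  [∀ n : ℤ, (shiftFunctor D₂ n).Additive] [Pretriangulated D₂]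
  [HasCoproducts.{v} D₁] [HasColimitsOfShape (Discrete ℕ) D₁]

/-- Brown representability descends along Bousfield localizations. -/
theorem isRepresentable_of_localization
    (hD : ∀ (K : D₂ᵒᵖ ⥤ AddCommGrpCat.{v}) [K.IsHomological]
      [∀ κ : Type v, PreservesLimitsOfShape (Discrete κ) K],
      (K ⋙ forget AddCommGrpCat.{v}).IsRepresentable)
    (L : D₂ ⥤ D₁) [L.CommShift ℤ] [L.IsTriangulated] {R : D₁ ⥤ D₂} (adj : L ⊣ R)
    [IsIso adj.counit] (H : D₁ᵒᵖ ⥤ AddCommGrpCat.{v}) [H.IsHomological]
    [∀ κ : Type v, PreservesLimitsOfShape (Discrete κ) H] :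
    (H ⋙ forget AddCommGrpCat.{v}).IsRepresentable := by
  haveI := adj.isLeftAdjoint
  haveI : ∀ κ : Type v, PreservesLimitsOfShape (Discrete κ) L.op := fun κ => by
    haveI := preservesColimitsOfShape_of_equiv (Discrete.opposite κ).symm L
    exact preservesLimitsOfShape_op _ _
  haveI := adj.fullyFaithfulROfIsIsoCounit.full
  haveI := adj.fullyFaithfulROfIsIsoCounit.faithful
  obtain ⟨⟨Y, ⟨r⟩⟩⟩ := hD (L.op ⋙ H)
  let φ : ∀ W, (W ⟶ Y) → El H (L.obj W) := fun W g => r.homEquiv g
  have φ_comp : ∀ {W W' : D₂} (f : W ⟶ W') (g : W' ⟶ Y), φ W (f ≫ g) = pb H (L.map f) (φ W' g) :=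
    fun f g => r.homEquiv_comp f g
  -- `Y` is local
  have hloc : ∀ W : D₂, IsZero (L.obj W) → ∀ g : W ⟶ Y, g = 0 := fun W hW g =>
    r.homEquiv.injective (@Subsingleton.elim _
      (AddCommGrpCat.subsingleton_of_isZero (H.map_isZero hW.op)) _ _)
  obtain ⟨W, f, g, hT⟩ := distinguished_cocone_triangle₁ (adj.unit.app Y)
  have hLη : IsIso (L.map (adj.unit.app Y)) := by
    let η : Y ⟶ R.obj (L.obj Y) := adj.unit.app Y
    have h : L.map η ≫ adj.counit.app (L.obj Y) = 𝟙 (L.obj Y) := adj.left_triangle_components Y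
    haveI : IsIso (𝟙 (L.obj Y)) := IsIso.id _
    show IsIso (L.map η)
    exact IsIso.of_isIso_fac_right h
  have hW : IsZero (L.obj W) :=
    Triangle.isZero₁_of_isIso₂ _ (L.map_distinguished _ hT) hLη
  obtain ⟨ret, hret⟩ : ∃ ret, 𝟙 Y = adj.unit.app Y ≫ ret :=
    Triangle.yoneda_exact₂ _ hT (𝟙 Y) ((comp_id f).trans (hloc W hW f))
  haveI : IsIso (adj.unit.app Y) := by
    refine ⟨ret, hret.symm, ?_⟩
    haveI : IsIso (adj.unit.app (R.obj (L.obj Y))) := inferInstance
    have h1 := adj.unit.naturality ret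
    have h2 : adj.unit.app (R.obj (L.obj Y)) = R.map (L.map (adj.unit.app Y)) := by
      rw [← cancel_mono (R.map (adj.counit.app (L.obj Y))), adj.right_triangle_components,
        ← R.map_comp]
      exact ((congr_arg R.map (adj.left_triangle_components Y)).trans (R.map_id _)).symm
    dsimp at h1
    rw [h1, h2, ← R.map_comp, ← L.map_comp]
    exact (congr_arg (fun k => R.map (L.map k)) hret.symm).trans
      ((congr_arg R.map (L.map_id _)).trans (R.map_id _))
  let a : El H (L.obj Y) := φ Y (𝟙 Y)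
  have hφ : ∀ (W : D₂) (g : W ⟶ Y), φ W g = pb H (L.map g) a := fun W g => by
    rw [← φ_comp, comp_id]
  have hbij : ∀ W : D₂, Function.Bijective fun g : L.obj W ⟶ L.obj Y => pb H g a := fun W => by
    let e : (L.obj W ⟶ L.obj Y) ≃ (W ⟶ Y) :=
      (adj.homEquiv W (L.obj Y)).trans (asIso (adj.unit.app Y)).symm.homToEquiv
    have he : ∀ g, L.map (e g) = g := fun g => by
      apply (adj.homEquiv W (L.obj Y)).injective
      rw [adj.homEquiv_unit, adj.unit_naturality]
      simp [e]
    rw [show (fun g : L.obj W ⟶ L.obj Y => pb H g a) = φ W ∘ e from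
      funext fun g => by rw [Function.comp_apply, hφ, he]]
    exact r.homEquiv.bijective.comp e.bijective
  refine ⟨⟨L.obj Y, ⟨{
    homEquiv := fun {X} => Equiv.ofBijective (fun g : X ⟶ L.obj Y => pb H g a) ?_
    homEquiv_comp := fun f g => pb_comp H f g a }⟩⟩⟩
  have hε := (hbij (R.obj X))
  refine ⟨fun g g' h => (cancel_epi (adj.counit.app X)).1 (hε.1 ?_), fun b => ?_⟩
  · simp only [pb_comp] at h ⊢
    rw [h]
  · obtain ⟨g, hg⟩ := hε.2 (pb H (adj.counit.app X) b)
    refine ⟨inv (adj.counit.app X) ≫ g, ?_⟩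
    show pb H (inv (adj.counit.app X) ≫ g) a = b
    rw [pb_comp]
    refine (congr_arg (pb H _) hg).trans ?_
    rw [← pb_comp, IsIso.inv_hom_id]
    exact pb_id H b

end

section

variable {A : Type u} [Category.{v} A] [Abelian A] [IsGrothendieckAbelian.{v} A]
  [HasDerivedCategory.{v} A]

/-- Brown representability for `D(A)`. -/
theorem isRepresentable_derivedCategory (H : (DerivedCategory A)ᵒᵖ ⥤ AddCommGrpCat.{v})
    [H.IsHomological] [∀ κ : Type v, PreservesLimitsOfShape (Discrete κ) H] :
    (H ⋙ forget AddCommGrpCat.{v}).IsRepresentable := by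
  obtain ⟨U, hU⟩ : ∃ U : A, IsSeparator U := HasSeparator.hasSeparator
  haveI := hasCoproducts_derivedCategory (A := A)
  haveI := hasColimitsOfShape_of_equivalence (C := DerivedCategory A)
    (Discrete.equivalence (Equiv.ulift.{v} (α := ℕ)))
  letI := smallDerivedCategory (ModuleCat.{v} (End U)ᵐᵒᵖ)
  haveI := hasCoproducts_derivedCategory (A := ModuleCat.{v} (End U)ᵐᵒᵖ)
  haveI := hasColimitsOfShape_of_equivalence (C := DerivedCategory (ModuleCat.{v} (End U)ᵐᵒᵖ))
    (Discrete.equivalence (Equiv.ulift.{v} (α := ℕ)))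
  let T := IsGrothendieckAbelian.tensorObj U
  let tadj := IsGrothendieckAbelian.tensorObjPreadditiveCoyonedaObjAdjunction U
  haveI : PreservesFiniteLimits T := IsGrothendieckAbelian.GabrielPopescu.preservesFiniteLimits U hU
  haveI := tadj.isLeftAdjoint
  haveI : PreservesBinaryBiproducts T := preservesBinaryBiproducts_of_preservesBinaryCoproducts T
  haveI : T.Additive := Functor.additive_of_preservesBinaryBiproducts _
  haveI := IsGrothendieckAbelian.GabrielPopescu.full U hU
  haveI := (isSeparator_iff_faithful_preadditiveCoyonedaObj U).1 hU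
  let G := (preadditiveCoyonedaObj U).mapHomotopyCategory (ComplexShape.up ℤ) ⋙ DerivedCategory.Qh
  haveI := KInj.hasRightDerivedFunctor (KInj.hres_of_isGrothendieckAbelian A) G
  obtain ⟨a, ha⟩ := KInj.exists_derived_adjunction (KInj.hres_of_isGrothendieckAbelian A) tadj _
    (G.totalRightDerivedUnit DerivedCategory.Qh (HomotopyCategory.quasiIso A (ComplexShape.up ℤ)))
  haveI : T.mapDerivedCategory.IsTriangulated := inferInstance
  exact isRepresentable_of_localization
    (fun K => isRepresentable_of_perfect K perfect_ringObj detects_ringObj) T.mapDerivedCategory a H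

end

end Groth.Agent.BrownRep
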